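import Cfsg.Agent.Lib.Helper29.OG.PFrame

/-!
# Root-group calculus for a hyperbolic frame with complement `W`
-/

set_option autoImplicit false

namespace Cfsg.Agent.Lib.Helper29.OG

open Matrix Cfsg.Agent.Lib.Helper28.HForm Cfsg.Agent.Lib.Helper28.OGen
  Cfsg.Agent.Lib.Helper28.OMax Cfsg.Agent.Lib.Helper28.OIwa Cfsg.Agent.Lib.Helper28.OQ
  Cfsg.Agent.Lib.Helper28.OMax2 Cfsg.Agent.Lib.Helper28.OIwa2

variable {n : ℕ} {F : Type*} [Field F] {Q : (Fin n → F) → F}
  {f : (Fin n → F) → (Fin n → F) → F}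

/-- all elements acting as `S_{c a, w}` lie in `H`. -/
def SW (Q : (Fin n → F) → F) (f : (Fin n → F) → (Fin n → F) → F) (c : ℕ → Fin n → F)
    (H : Subgroup (Matrix.GeneralLinearGroup (Fin n) F)) (a : ℕ) (w : Fin n → F) : Prop :=
  ∀ g : Matrix.GeneralLinearGroup (Fin n) F, IsSv Q f g (c a) w → g ∈ H

/-- the full "short" root group at `c a`. -/
def FSW (Q : (Fin n → F) → F) (f : (Fin n → F) → (Fin n → F) → F) (m : ℕ) (c : ℕ → Fin n → F)
    (H : Subgroup (Matrix.GeneralLinearGroup (Fin n) F)) (a : ℕ) : Prop :=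
  ∀ w ∈ Wp f m c, SW Q f c H a w

variable {m : ℕ} {c : ℕ → Fin n → F}

theorem SW_zero (hq : QF Q f) (H : Subgroup (Matrix.GeneralLinearGroup (Fin n) F)) (a : ℕ) :
    SW Q f c H a 0 := by
  intro g hg
  rw [isSv_ext hg (isSv_one hq _)]
  exact H.one_mem

section calculus

variable (hq : QF Q f) (vf : VFacts Q f)
  {G : Subgroup (Matrix.GeneralLinearGroup (Fin n) F)} (hG : SgGroupQ Q f G)
  (fr : PFrame Q f m c) {H : Subgroup (Matrix.GeneralLinearGroup (Fin n) F)}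

include hq vf hG fr

theorem SW_add {a : ℕ} (ha : a < 2 * m) {w w' : Fin n → F} (hw : f (c a) w = 0)
    (hw' : f (c a) w' = 0) (h : SW Q f c H a w) (h' : SW Q f c H a w') :
    SW Q f c H a (w + w') := by
  intro g hg
  obtain ⟨t₁, _, ht₁⟩ := exists_isSv hq vf hG (fr.qc a ha) hw
  obtain ⟨t₂, _, ht₂⟩ := exists_isSv hq vf hG (fr.qc a ha) hw'
  have h3 := isSv_mul hq (fr.qc a ha) hw hw' ht₁ ht₂
  rw [isSv_ext hg h3]
  exact H.mul_mem (h t₁ ht₁) (h' t₂ ht₂)

theorem SW_neg {a : ℕ} (ha : a < 2 * m) {w : Fin n → F} (hw : f (c a) w = 0)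
    (h : SW Q f c H a w) : SW Q f c H a (-w) := by
  intro g hg
  obtain ⟨t₁, _, ht₁⟩ := exists_isSv hq vf hG (fr.qc a ha) hw
  have h3 := isSv_inv hq (fr.qc a ha) hw ht₁
  rw [isSv_ext hg h3]
  exact H.inv_mem (h t₁ ht₁)

theorem SW_conj (hHG : H ≤ G) {a b : ℕ} (ha : a < 2 * m)
    {g : Matrix.GeneralLinearGroup (Fin n) F} (hgH : g ∈ H) {w : Fin n → F}
    (hw : f (c a) w = 0) {ε : F}
    (hga : (g : Matrix (Fin n) (Fin n) F) *ᵥ c a = ε • c b) (h : SW Q f c H a w) :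
    SW Q f c H b (ε • ((g : Matrix (Fin n) (Fin n) F) *ᵥ w)) := by
  intro g' hg'
  obtain ⟨t, _, ht⟩ := exists_isSv hq vf hG (fr.qc a ha) hw
  have h1 := isSv_conj hq (hG.iso g (hHG hgH)) ht
  rw [hga] at h1
  have h2 : IsSv Q f (g * t * g⁻¹) (c b) (ε • ((g : Matrix (Fin n) (Fin n) F) *ᵥ w)) :=
    isSv_congr h1 (fun x => Sv_smul_left hq ε (c b) _ x)
  rw [isSv_ext hg' h2]
  exact H.mul_mem (H.mul_mem hgH (h t ht)) (H.inv_mem hgH)

/-- the long root groups from two full short root groups. -/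
theorem FL_of_FSW {a b : ℕ} (ha : a < 2 * m) (hb : b < 2 * m) (hab : b ≠ a + m)
    (hba : a ≠ b + m) {w w' : Fin n → F} (hw : w ∈ Wp f m c) (hw' : w' ∈ Wp f m c)
    (hww' : f w w' ≠ 0) (hFa : FSW Q f m c H a) (hFb : FSW Q f m c H b) : FL f c H a b := by
  have hf := hq.sym
  intro k t ht
  have hw1 : (k / f w w') • w ∈ Wp f m c := Wp_smul hf _ hw
  obtain ⟨A, hAG, hA⟩ := exists_isSv hq vf hG (fr.qc a ha) (hw1 a ha)
  obtain ⟨B, _, hB⟩ := exists_isSv hq vf hG (fr.qc b hb) (hw' b hb)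
  have hAH := hFa _ hw1 A hA
  have hBH := hFb _ hw' B hB
  have h1 := isSv_commutator hq (fr.qc a ha) (fr.qc b hb) (fr.orth a b ha hb hab hba) (hw1 a ha)
    (hw' a ha) (hw1 b hb) (hw' b hb) (hG.iso A hAG) hA hB
  have e : f ((k / f w w') • w) w' = k := by
    rw [hf.smul_left]
    field_simp
  rw [e] at h1
  have h3 : t = A * B * A⁻¹ * B⁻¹ := gl_ext _ _ (fun x => by rw [ht x, h1 x])
  rw [h3]
  exact H.mul_mem (H.mul_mem (H.mul_mem hAH hBH) (H.inv_mem hAH)) (H.inv_mem hBH)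

/-- the radical lemma with complement `Wp`. -/
theorem rad2 {a₀ : ℕ} (ha₀ : a₀ < 2 * m) (hFS : FSW Q f m c H a₀)
    (hFL : ∀ b, b < 2 * m → b ≠ a₀ + m → a₀ ≠ b + m → FL f c H a₀ b) :
    c a₀ ∈ XSQ Q f H := by
  have hf := hq.sym
  have hq0 := fr.qc a₀ ha₀
  refine ⟨hq0, ?_⟩
  intro v k t hv hcv ht
  have key : ∀ w : Fin n → F, (∃ (s : Finset ℕ) (g : ℕ → F), (∀ a ∈ s, a < 2 * m) ∧
      (∀ a ∈ s, a = pr m a₀ → g a = 0) ∧ ∃ w' ∈ Wp f m c, w = ∑ a ∈ s, g a • c a + w') →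
      f (c a₀) w = 0 ∧ ∀ t : Matrix.GeneralLinearGroup (Fin n) F, IsSv Q f t (c a₀) w → t ∈ H := by
    rintro w ⟨s, g, hs, hg, w', hw', rfl⟩
    classical
    induction s using Finset.induction_on with
    | empty =>
      rw [Finset.sum_empty, zero_add]
      exact ⟨hw' a₀ ha₀, fun t ht => hFS w' hw' t ht⟩
    | insert a s has ih =>
      have ha : a < 2 * m := hs a (Finset.mem_insert_self a s)
      obtain ⟨ih1, ih2⟩ := ih (fun b hb => hs b (Finset.mem_insert_of_mem hb))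
        (fun b hb => hg b (Finset.mem_insert_of_mem hb))
      rw [Finset.sum_insert has, add_assoc]
      have hterm : f (c a₀) (g a • c a) = 0 ∧
          ∀ t : Matrix.GeneralLinearGroup (Fin n) F, IsSv Q f t (c a₀) (g a • c a) → t ∈ H := by
        by_cases h1 : a = pr m a₀
        · rw [hg a (Finset.mem_insert_self a s) h1, zero_smul]
          exact ⟨f_zero_right hf _, SW_zero hq H a₀⟩
        by_cases h2 : a = a₀
        · subst h2
          refine ⟨by rw [s_smul_right hf, f_sing hq hq0, mul_zero], fun t ht => ?_⟩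
          have : t = 1 := gl_ext _ _ (fun x => by
            rw [ht x, Sv_self hq hq0, Units.val_one, Matrix.one_mulVec])
          rw [this]
          exact H.one_mem
        · have hab : a ≠ a₀ + m ∧ a₀ ≠ a + m := by
            unfold pr at h1
            split_ifs at h1 <;> omega
          refine ⟨by rw [s_smul_right hf, fr.orth a₀ a ha₀ ha hab.1 hab.2, mul_zero],
            fun t ht => ?_⟩
          exact hFL a ha hab.1 hab.2 (g a) t (isSg_of_isSv hq (fr.qc a ha) ht)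
      refine ⟨by rw [f_add_right hf, hterm.1, ih1, add_zero], ?_⟩
      exact SW_add hq vf hG fr ha₀ hterm.1 ih1 hterm.2 ih2
  have hkv := key (k • v) ⟨Finset.range (2 * m), fun a => k * f v (c (pr m a)),
    fun a ha => Finset.mem_range.1 ha, fun a _ h => by
      show k * f v (c (pr m a)) = 0
      rw [h, pr_pr ha₀, s_symm hf, hcv, mul_zero], k • (v - fpart f m c v),
      Wp_smul hf k (fr.sub_mem_Wp hq v), by
      have e : ∑ a ∈ Finset.range (2 * m), (k * f v (c (pr m a))) • c a = k • fpart f m c v := by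
        unfold fpart
        rw [Finset.smul_sum]
        apply Finset.sum_congr rfl
        intro a _
        rw [smul_smul]
      rw [e]
      module⟩
  exact hkv.2 t (isSv_of_isSg hq hv ht)

/-- all short root groups full ⟹ `G ≤ H`. -/
theorem gen_of_FSW (hm : 1 ≤ m) (hHG : H ≤ G) (hF : ∀ a, a < 2 * m → FSW Q f m c H a)
    {w w' : Fin n → F} (hw : w ∈ Wp f m c) (hw' : w' ∈ Wp f m c) (hww' : f w w' ≠ 0) :
    G ≤ H := by
  have hrad : ∀ a₀, a₀ < 2 * m → c a₀ ∈ XSQ Q f H := by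
    intro a₀ ha₀
    refine rad2 hq vf hG fr ha₀ (hF a₀ ha₀) (fun b hb hb1 hb2 => ?_)
    exact FL_of_FSW hq vf hG fr ha₀ hb hb1 hb2 hw hw' hww' (hF a₀ ha₀) (hF b hb)
  have h0m : f (c 0) (c m) ≠ 0 := by
    have := fr.pair 0 (by omega)
    rw [zero_add] at this
    rw [this]
    exact one_ne_zero
  exact oppGen hq vf hG hHG (hrad 0 (by omega)) (hrad m (by omega)) h0m

end calculus

end Cfsg.Agent.Lib.Helper29.OG
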