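import Cfsg.Agent.Lib.Helper29.OG.Frame

/-!
# A Coxeter element for a `B_m` frame (abstract setting)
-/

set_option autoImplicit false

namespace Cfsg.Agent.Lib.Helper29.OG

open Matrix Cfsg.Agent.Lib.Helper28.HForm Cfsg.Agent.Lib.Helper28.OGen
  Cfsg.Agent.Lib.Helper28.OMax Cfsg.Agent.Lib.Helper28.OIwa Cfsg.Agent.Lib.Helper28.OQ
  Cfsg.Agent.Lib.Helper28.OMax2 Cfsg.Agent.Lib.Helper28.OIwa2

variable {n : ℕ} {F : Type*} [Field F] {Q : (Fin n → F) → F}
  {f : (Fin n → F) → (Fin n → F) → F}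

/-- the index permutation of the partial Coxeter product `n_k ⋯ n_{m-2} n_short`. -/
def Sx (m k a : ℕ) : ℕ :=
  if a < k then a else if a < m - 1 then a + 1 else if a = m - 1 then k + m
  else if a < k + m then a else if a < 2 * m - 1 then a + 1 else k

/-- the index permutation of `n_k`. -/
def tx (m k b : ℕ) : ℕ :=
  if b = k then k + 1 else if b = k + 1 then k else if b = k + m then k + 1 + m
  else if b = k + 1 + m then k + m else b

/-- the cyclic shift of `{0, …, 2m-1}`. -/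
def cyc (m a : ℕ) : ℕ := if a + 1 < 2 * m then a + 1 else 0

theorem tx_Sx {m k a : ℕ} (hk : k + 1 ≤ m - 1) (ha : a < 2 * m) :
    tx m k (Sx m (k + 1) a) = Sx m k a := by
  unfold tx Sx
  split_ifs <;> omega

theorem Sx_lt {m k a : ℕ} (hk : k ≤ m - 1) (hm : 1 ≤ m) (ha : a < 2 * m) : Sx m k a < 2 * m := by
  unfold Sx
  split_ifs <;> omega

theorem Sx_zero {m a : ℕ} (hm : 1 ≤ m) (ha : a < 2 * m) : Sx m 0 a = cyc m a := by
  unfold Sx cyc
  split_ifs <;> omega

variable {m : ℕ}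

/-- `g` is monomial on the frame with index map `σ`. -/
def Mono (m : ℕ) (c : ℕ → Fin n → F) (d : Fin n → F)
    (g : Matrix.GeneralLinearGroup (Fin n) F) (σ : ℕ → ℕ) : Prop :=
  (∀ a, a < 2 * m → ∃ ε : F, ε ≠ 0 ∧ (g : Matrix (Fin n) (Fin n) F) *ᵥ c a = ε • c (σ a)) ∧
    ∃ δ : F, δ ≠ 0 ∧ (g : Matrix (Fin n) (Fin n) F) *ᵥ d = δ • d

variable {c : ℕ → Fin n → F} {d : Fin n → F}

theorem Mono.mul {g₁ g₂ : Matrix.GeneralLinearGroup (Fin n) F} {σ₁ σ₂ : ℕ → ℕ}
    (h₁ : Mono m c d g₁ σ₁) (h₂ : Mono m c d g₂ σ₂) (hσ : ∀ a, a < 2 * m → σ₂ a < 2 * m) :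
    Mono m c d (g₁ * g₂) (fun a => σ₁ (σ₂ a)) := by
  refine ⟨fun a ha => ?_, ?_⟩
  · obtain ⟨ε₂, hε₂, e₂⟩ := h₂.1 a ha
    obtain ⟨ε₁, hε₁, e₁⟩ := h₁.1 (σ₂ a) (hσ a ha)
    refine ⟨ε₂ * ε₁, mul_ne_zero hε₂ hε₁, ?_⟩
    rw [Cfsg.Agent.S5643.mul_mv, e₂, Matrix.mulVec_smul, e₁, smul_smul]
  · obtain ⟨δ₂, hδ₂, e₂⟩ := h₂.2
    obtain ⟨δ₁, hδ₁, e₁⟩ := h₁.2
    refine ⟨δ₂ * δ₁, mul_ne_zero hδ₂ hδ₁, ?_⟩
    rw [Cfsg.Agent.S5643.mul_mv, e₂, Matrix.mulVec_smul, e₁, smul_smul]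

theorem Mono.congr {g : Matrix.GeneralLinearGroup (Fin n) F} {σ σ' : ℕ → ℕ}
    (h : Mono m c d g σ) (hσ : ∀ a, a < 2 * m → σ a = σ' a) : Mono m c d g σ' := by
  refine ⟨fun a ha => ?_, h.2⟩
  obtain ⟨ε, hε, e⟩ := h.1 a ha
  exact ⟨ε, hε, by rw [e, hσ a ha]⟩

/-- the long-root Weyl element `n_k` is monomial. -/
theorem wmono (hq : QF Q f) {G : Subgroup (Matrix.GeneralLinearGroup (Fin n) F)}
    (hG : SgGroupQ Q f G) (fr : Frame Q f m c d) {k : ℕ} (hk : k + 1 < m) :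
    ∃ g ∈ G, Mono m c d g (tx m k) := by
  have hf := hq.sym
  have hD : HQuad Q f (c k) (c (k + m)) (c (k + 1 + m)) (c (k + 1)) :=
    { qp := fr.qc _ (by omega)
      qp' := fr.qc _ (by omega)
      qr := fr.qc _ (by omega)
      qr' := fr.qc _ (by omega)
      pp' := fr.pair _ (by omega)
      rr' := fr.pair' hq (by omega)
      pr := fr.orth _ _ (by omega) (by omega) (by omega) (by omega)
      pr' := fr.orth _ _ (by omega) (by omega) (by omega) (by omega)
      p'r := fr.orth _ _ (by omega) (by omega) (by omega) (by omega)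
      p'r' := fr.orth _ _ (by omega) (by omega) (by omega) (by omega) }
  obtain ⟨g, hgG, g1, g2, g3, g4, g5⟩ := W_exists hq hG hD 1 1 (one_mul 1)
  refine ⟨g, hgG, fun b hb => ?_, 1, one_ne_zero, ?_⟩
  · by_cases h1 : b = k
    · subst h1
      refine ⟨1, one_ne_zero, ?_⟩
      rw [g1]
      unfold tx
      rw [if_pos rfl]
    by_cases h2 : b = k + 1
    · subst h2
      refine ⟨-1, neg_ne_zero.2 one_ne_zero, ?_⟩
      rw [g2]
      unfold tx
      rw [if_neg (by omega), if_pos rfl]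
    by_cases h3 : b = k + m
    · subst h3
      refine ⟨1, one_ne_zero, ?_⟩
      rw [g4]
      unfold tx
      rw [if_neg (by omega), if_neg (by omega), if_pos rfl]
    by_cases h4 : b = k + 1 + m
    · subst h4
      refine ⟨-1, neg_ne_zero.2 one_ne_zero, ?_⟩
      rw [g3]
      unfold tx
      rw [if_neg (by omega), if_neg (by omega), if_neg (by omega), if_pos rfl]
    · refine ⟨1, one_ne_zero, ?_⟩
      have e : tx m k b = b := by
        unfold tx
        rw [if_neg h1, if_neg h2, if_neg h3, if_neg h4]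
      rw [e, one_smul]
      exact g5 (c b) (fr.orth _ _ (by omega) hb (by omega) (by omega))
        (fr.orth _ _ (by omega) hb (by omega) (by omega))
        (fr.orth _ _ (by omega) hb (by omega) (by omega))
        (fr.orth _ _ (by omega) hb (by omega) (by omega))
  · rw [one_smul]
    exact g5 d (fr.cd _ (by omega)) (fr.cd _ (by omega)) (fr.cd _ (by omega)) (fr.cd _ (by omega))

/-- the short-root Weyl element is monomial. -/
theorem nshort_mono (hq : QF Q f) (vf : VFacts Q f)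
    {G : Subgroup (Matrix.GeneralLinearGroup (Fin n) F)}
    (hG : SgGroupQ Q f G) (fr : Frame Q f m c d) (hm : 1 ≤ m) :
    ∃ g ∈ G, Mono m c d g (Sx m (m - 1)) := by
  have hf := hq.sym
  have e1 : m - 1 + m = 2 * m - 1 := by omega
  have hcc' : f (c (m - 1)) (c (2 * m - 1)) = 1 := by
    rw [← e1]
    exact fr.pair _ (by omega)
  have hc'd : f (c (2 * m - 1)) d = 0 := fr.cd _ (by omega)
  obtain ⟨g, hgG, g1, g2, g3, g4⟩ := Nshort_exists hq vf hG (fr.qc (m - 1) (by omega))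
    (fr.qc (2 * m - 1) (by omega)) hcc' fr.qd (fr.cd _ (by omega)) hc'd
  refine ⟨g, hgG, fun b hb => ?_, -1, neg_ne_zero.2 one_ne_zero, g3⟩
  by_cases h1 : b = m - 1
  · subst h1
    refine ⟨-1, neg_ne_zero.2 one_ne_zero, ?_⟩
    have e : Sx m (m - 1) (m - 1) = 2 * m - 1 := by
      unfold Sx
      split_ifs <;> omega
    rw [g1, e]
  by_cases h2 : b = 2 * m - 1
  · subst h2
    refine ⟨-1, neg_ne_zero.2 one_ne_zero, ?_⟩
    have e : Sx m (m - 1) (2 * m - 1) = m - 1 := by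
      unfold Sx
      split_ifs <;> omega
    rw [g2, e]
  · refine ⟨1, one_ne_zero, ?_⟩
    have e : Sx m (m - 1) b = b := by
      unfold Sx
      split_ifs <;> omega
    rw [e, one_smul]
    exact g4 (c b) (fr.orth _ _ (by omega) hb (by omega) (by omega))
      (fr.orth _ _ (by omega) hb (by omega) (by omega)) (fr.dc hq hb)

theorem cox_aux (hq : QF Q f) (vf : VFacts Q f)
    {G : Subgroup (Matrix.GeneralLinearGroup (Fin n) F)}
    (hG : SgGroupQ Q f G) (fr : Frame Q f m c d) (hm : 1 ≤ m) :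
    ∀ j k : ℕ, j + k = m - 1 → ∃ g ∈ G, Mono m c d g (Sx m k) := by
  intro j
  induction j with
  | zero =>
    intro k hk
    have : k = m - 1 := by omega
    subst this
    exact nshort_mono hq vf hG fr hm
  | succ j ih =>
    intro k hk
    obtain ⟨g₁, hg₁G, hg₁⟩ := ih (k + 1) (by omega)
    obtain ⟨w, hwG, hw⟩ := wmono hq hG fr (k := k) (by omega)
    refine ⟨w * g₁, G.mul_mem hwG hg₁G, ?_⟩
    have h1 := hw.mul hg₁ (fun a ha => Sx_lt (by omega) hm ha)
    exact h1.congr (fun a ha => tx_Sx (by omega) ha)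

/-- existence of a Coxeter element: cyclic shift of the `2m` frame lines, fixing the line of `d`. -/
theorem cox_exists (hq : QF Q f) (vf : VFacts Q f)
    {G : Subgroup (Matrix.GeneralLinearGroup (Fin n) F)}
    (hG : SgGroupQ Q f G) (fr : Frame Q f m c d) (hm : 1 ≤ m) :
    ∃ g ∈ G, Mono m c d g (cyc m) := by
  obtain ⟨g, hgG, hg⟩ := cox_aux hq vf hG fr hm (m - 1) 0 (by omega)
  exact ⟨g, hgG, hg.congr (fun a ha => Sx_zero hm ha)⟩

end Cfsg.Agent.Lib.Helper29.OG
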