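import Cfsg.Agent.Lib.Helper29.OG.PFrame

/-!
# A Coxeter element for a hyperbolic frame with complement `W` (acting on `W` as a reflection)
-/

set_option autoImplicit false

namespace Cfsg.Agent.Lib.Helper29.OG

open Matrix Cfsg.Agent.Lib.Helper28.HForm Cfsg.Agent.Lib.Helper28.OGen
  Cfsg.Agent.Lib.Helper28.OMax Cfsg.Agent.Lib.Helper28.OIwa Cfsg.Agent.Lib.Helper28.OQ
  Cfsg.Agent.Lib.Helper28.OMax2 Cfsg.Agent.Lib.Helper28.OIwa2

variable {n : ℕ} {F : Type*} [Field F] {Q : (Fin n → F) → F}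
  {f : (Fin n → F) → (Fin n → F) → F}

/-- the short-root Weyl element, with its action on everything orthogonal to `c, c'`. -/
theorem Nshort_exists2 (hq : QF Q f) (vf : VFacts Q f)
    {G : Subgroup (Matrix.GeneralLinearGroup (Fin n) F)} (hG : SgGroupQ Q f G)
    {c c' d : Fin n → F} (hc : Q c = 0) (hc' : Q c' = 0) (hcc' : f c c' = 1) (hd : Q d = 1)
    (hcd : f c d = 0) (hc'd : f c' d = 0) :
    ∃ g ∈ G, (g : Matrix (Fin n) (Fin n) F) *ᵥ c = (-1 : F) • c' ∧
      (g : Matrix (Fin n) (Fin n) F) *ᵥ c' = (-1 : F) • c ∧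
      ∀ z, f c z = 0 → f c' z = 0 → (g : Matrix (Fin n) (Fin n) F) *ᵥ z = z - f d z • d := by
  have hf := hq.sym
  have hcc := f_sing hq hc
  have hc'c' := f_sing hq hc'
  have hc'c : f c' c = 1 := by rw [s_symm hf, hcc']
  have hdc : f d c = 0 := by rw [s_symm hf, hcd]
  have hdc' : f d c' = 0 := by rw [s_symm hf, hc'd]
  have hdd : f d d = 2 := by rw [f_self hq, hd, mul_one]
  obtain ⟨X, hXG, hX⟩ := exists_isSv hq vf hG hc hcd
  obtain ⟨Y, hYG, hY⟩ := exists_isSv hq vf hG hc' hc'd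
  have Xc : (X : Matrix (Fin n) (Fin n) F) *ᵥ c = c := by
    rw [hX c]; unfold Sv; rw [hcc, hdc]; module
  have Xd : (X : Matrix (Fin n) (Fin n) F) *ᵥ d = d - (2 : F) • c := by
    rw [hX d]; unfold Sv; rw [hcd, hdd]; module
  have Xc' : (X : Matrix (Fin n) (Fin n) F) *ᵥ c' = c' + d - c := by
    rw [hX c']; unfold Sv; rw [hcc', hdc', hd]; module
  have Yc' : (Y : Matrix (Fin n) (Fin n) F) *ᵥ c' = c' := by
    rw [hY c']; unfold Sv; rw [hc'c', hdc']; module
  have Yd : (Y : Matrix (Fin n) (Fin n) F) *ᵥ d = d - (2 : F) • c' := by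
    rw [hY d]; unfold Sv; rw [hc'd, hdd]; module
  have Yc : (Y : Matrix (Fin n) (Fin n) F) *ᵥ c = c + d - c' := by
    rw [hY c]; unfold Sv; rw [hc'c, hdc, hd]; module
  refine ⟨X * Y * X, G.mul_mem (G.mul_mem hXG hYG) hXG, ?_, ?_, ?_⟩
  · rw [Cfsg.Agent.S5643.mul_mv, Cfsg.Agent.S5643.mul_mv, Xc, Yc, Matrix.mulVec_sub,
      Matrix.mulVec_add, Xc, Xd, Xc']
    module
  · rw [Cfsg.Agent.S5643.mul_mv, Cfsg.Agent.S5643.mul_mv, Xc', Matrix.mulVec_sub,
      Matrix.mulVec_add, Yc', Yd, Yc, Matrix.mulVec_sub, Matrix.mulVec_add, Matrix.mulVec_sub,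
      Matrix.mulVec_smul, Matrix.mulVec_sub, Matrix.mulVec_add, Xc, Xd, Xc']
    module
  · intro z h1 h2
    have Xz : (X : Matrix (Fin n) (Fin n) F) *ᵥ z = z - f d z • c := by
      rw [hX z]; unfold Sv; rw [h1]; module
    have Yz : (Y : Matrix (Fin n) (Fin n) F) *ᵥ z = z - f d z • c' := by
      rw [hY z]; unfold Sv; rw [h2]; module
    rw [Cfsg.Agent.S5643.mul_mv, Cfsg.Agent.S5643.mul_mv, Xz, Matrix.mulVec_sub,
      Matrix.mulVec_smul, Yz, Yc, Matrix.mulVec_sub, Matrix.mulVec_sub, Matrix.mulVec_smul,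
      Matrix.mulVec_smul, Matrix.mulVec_sub, Matrix.mulVec_add, Xz, Xc, Xd, Xc']
    module

variable {m : ℕ} {c : ℕ → Fin n → F}

/-- the long-root Weyl element `n_k` is sign-monomial and fixes `Wp`. -/
theorem wmono2 (hq : QF Q f) {G : Subgroup (Matrix.GeneralLinearGroup (Fin n) F)}
    (hG : SgGroupQ Q f G) (fr : PFrame Q f m c) {k : ℕ} (hk : k + 1 < m) :
    ∃ g ∈ G, Mono2 f m c (fun w => w) g (tx m k) := by
  have hf := hq.sym
  have hD : HQuad Q f (c k) (c (k + m)) (c (k + 1 + m)) (c (k + 1)) :=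
    { qp := fr.qc _ (by omega)
      qp' := fr.qc _ (by omega)
      qr := fr.qc _ (by omega)
      qr' := fr.qc _ (by omega)
      pp' := fr.pair _ (by omega)
      rr' := fr.pair' hq (by omega)
      pr := fr.orth _ _ (by omega) (by omega) (by omega) (by omega)
      pr' := fr.orth _ _ (by omega) (by omega) (by omega) (by omega)
      p'r := fr.orth _ _ (by omega) (by omega) (by omega) (by omega)
      p'r' := fr.orth _ _ (by omega) (by omega) (by omega) (by omega) }
  obtain ⟨g, hgG, g1, g2, g3, g4, g5⟩ := W_exists hq hG hD 1 1 (one_mul 1)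
  refine ⟨g, hgG, fun b hb => ?_, fun w hw => ?_⟩
  · by_cases h1 : b = k
    · subst h1
      refine ⟨1, Or.inl rfl, ?_⟩
      rw [g1]
      unfold tx
      rw [if_pos rfl]
    by_cases h2 : b = k + 1
    · subst h2
      refine ⟨-1, Or.inr rfl, ?_⟩
      rw [g2]
      unfold tx
      rw [if_neg (by omega), if_pos rfl]
    by_cases h3 : b = k + m
    · subst h3
      refine ⟨1, Or.inl rfl, ?_⟩
      rw [g4]
      unfold tx
      rw [if_neg (by omega), if_neg (by omega), if_pos rfl]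
    by_cases h4 : b = k + 1 + m
    · subst h4
      refine ⟨-1, Or.inr rfl, ?_⟩
      rw [g3]
      unfold tx
      rw [if_neg (by omega), if_neg (by omega), if_neg (by omega), if_pos rfl]
    · refine ⟨1, Or.inl rfl, ?_⟩
      have e : tx m k b = b := by
        unfold tx
        rw [if_neg h1, if_neg h2, if_neg h3, if_neg h4]
      rw [e, one_smul]
      exact g5 (c b) (fr.orth _ _ (by omega) hb (by omega) (by omega))
        (fr.orth _ _ (by omega) hb (by omega) (by omega))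
        (fr.orth _ _ (by omega) hb (by omega) (by omega))
        (fr.orth _ _ (by omega) hb (by omega) (by omega))
  · exact g5 w (hw _ (by omega)) (hw _ (by omega)) (hw _ (by omega)) (hw _ (by omega))

/-- the short-root Weyl element is sign-monomial and acts on `Wp` by the reflection in `d`. -/
theorem nshort_mono2 (hq : QF Q f) (vf : VFacts Q f)
    {G : Subgroup (Matrix.GeneralLinearGroup (Fin n) F)}
    (hG : SgGroupQ Q f G) (fr : PFrame Q f m c) (hm : 1 ≤ m) {d : Fin n → F} (hd : Q d = 1)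
    (hdW : d ∈ Wp f m c) :
    ∃ g ∈ G, Mono2 f m c (rfl1 f d) g (Sx m (m - 1)) := by
  have hf := hq.sym
  have e1 : m - 1 + m = 2 * m - 1 := by omega
  have hcc' : f (c (m - 1)) (c (2 * m - 1)) = 1 := by
    rw [← e1]
    exact fr.pair _ (by omega)
  obtain ⟨g, hgG, g1, g2, g3⟩ := Nshort_exists2 hq vf hG (fr.qc (m - 1) (by omega))
    (fr.qc (2 * m - 1) (by omega)) hcc' hd (hdW _ (by omega)) (hdW _ (by omega))
  refine ⟨g, hgG, fun b hb => ?_, fun w hw => ?_⟩
  · by_cases h1 : b = m - 1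
    · subst h1
      refine ⟨-1, Or.inr rfl, ?_⟩
      have e : Sx m (m - 1) (m - 1) = 2 * m - 1 := by
        unfold Sx
        split_ifs <;> omega
      rw [g1, e]
    by_cases h2 : b = 2 * m - 1
    · subst h2
      refine ⟨-1, Or.inr rfl, ?_⟩
      have e : Sx m (m - 1) (2 * m - 1) = m - 1 := by
        unfold Sx
        split_ifs <;> omega
      rw [g2, e]
    · refine ⟨1, Or.inl rfl, ?_⟩
      have e : Sx m (m - 1) b = b := by
        unfold Sx
        split_ifs <;> omega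
      rw [e, one_smul, g3 (c b) (fr.orth _ _ (by omega) hb (by omega) (by omega))
        (fr.orth _ _ (by omega) hb (by omega) (by omega)), s_symm hf, hdW b hb, zero_smul,
        sub_zero]
  · rw [g3 w (hw _ (by omega)) (hw _ (by omega))]
    rfl

theorem cox2_aux (hq : QF Q f) (vf : VFacts Q f)
    {G : Subgroup (Matrix.GeneralLinearGroup (Fin n) F)}
    (hG : SgGroupQ Q f G) (fr : PFrame Q f m c) (hm : 1 ≤ m) {d : Fin n → F} (hd : Q d = 1)
    (hdW : d ∈ Wp f m c) :
    ∀ j k : ℕ, j + k = m - 1 → ∃ g ∈ G, Mono2 f m c (rfl1 f d) g (Sx m k) := by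
  intro j
  induction j with
  | zero =>
    intro k hk
    have : k = m - 1 := by omega
    subst this
    exact nshort_mono2 hq vf hG fr hm hd hdW
  | succ j ih =>
    intro k hk
    obtain ⟨g₁, hg₁G, hg₁⟩ := ih (k + 1) (by omega)
    obtain ⟨w, hwG, hw⟩ := wmono2 hq hG fr (k := k) (by omega)
    refine ⟨w * g₁, G.mul_mem hwG hg₁G, ?_⟩
    have h1 := hw.mul hg₁ (fun a ha => Sx_lt (by omega) hm ha)
      (fun w hw => rfl1_mem hq.sym hdW hw)
    exact h1.congr (fun a ha => tx_Sx (by omega) ha) (fun w _ => rfl)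

/-- existence of a Coxeter element: cyclic shift of the `2m` frame lines, reflection on `Wp`. -/
theorem cox2_exists (hq : QF Q f) (vf : VFacts Q f)
    {G : Subgroup (Matrix.GeneralLinearGroup (Fin n) F)}
    (hG : SgGroupQ Q f G) (fr : PFrame Q f m c) (hm : 1 ≤ m) {d : Fin n → F} (hd : Q d = 1)
    (hdW : d ∈ Wp f m c) :
    ∃ g ∈ G, Mono2 f m c (rfl1 f d) g (cyc m) := by
  obtain ⟨g, hgG, hg⟩ := cox2_aux hq vf hG fr hm hd hdW (m - 1) 0 (by omega)
  exact ⟨g, hgG, hg.congr (fun a ha => Sx_zero hm ha) (fun w _ => rfl)⟩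

end Cfsg.Agent.Lib.Helper29.OG
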