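import Cfsg.Agent.Lib.Helper29.OG.Rad
import Cfsg.Agent.Lib.Helper29.OG.Cox

/-!
# Two generators for a Siegel group with a `B_m` frame (`m ≥ 3`, odd characteristic)
-/

set_option autoImplicit false

namespace Cfsg.Agent.Lib.Helper29.OG

open Matrix Cfsg.Agent.Lib.Helper28.HForm Cfsg.Agent.Lib.Helper28.OGen
  Cfsg.Agent.Lib.Helper28.OMax Cfsg.Agent.Lib.Helper28.OIwa Cfsg.Agent.Lib.Helper28.OQ
  Cfsg.Agent.Lib.Helper28.OMax2 Cfsg.Agent.Lib.Helper28.OIwa2

variable {n : ℕ} {F : Type*} [Field F] {Q : (Fin n → F) → F}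
  {f : (Fin n → F) → (Fin n → F) → F}
variable {m : ℕ} {c : ℕ → Fin n → F} {d : Fin n → F}

theorem isSv_pow (hq : QF Q f) {x : Matrix.GeneralLinearGroup (Fin n) F} {u w : Fin n → F}
    (hu : Q u = 0) (huw : f u w = 0) (hx : IsSv Q f x u w) (k : ℕ) :
    IsSv Q f (x ^ k) u ((k : F) • w) := by
  induction k with
  | zero =>
    rw [pow_zero, Nat.cast_zero, zero_smul]
    exact isSv_one hq u
  | succ k ih =>
    have h1 : f u ((k : F) • w) = 0 := by rw [s_smul_right hq.sym, huw, mul_zero]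
    have h2 := isSv_mul hq hu h1 huw ih hx
    rw [pow_succ]
    have e : ((k : F) • w) + w = ((k + 1 : ℕ) : F) • w := by
      rw [Nat.cast_succ, add_smul, one_smul]
    rw [← e]
    exact h2

/-- **Two generators**: a Siegel group with a `B_m` frame (`m ≥ 3`) over a finite field of odd
characteristic is generated by two elements. -/
theorem two_gen_core [Fintype F] (hq : QF Q f) (vf : VFacts Q f)
    {G : Subgroup (Matrix.GeneralLinearGroup (Fin n) F)} (hG : SgGroupQ Q f G)
    (h2 : (2 : F) ≠ 0) (hm : 3 ≤ m) (fr : Frame Q f m c d) :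
    ∃ a ∈ G, ∃ b ∈ G, Subgroup.closure ({a, b} : Set (Matrix.GeneralLinearGroup (Fin n) F)) = G := by
  classical
  have hf := hq.sym
  obtain ⟨κu, hκu⟩ := IsCyclic.exists_monoid_generator (α := Fˣ)
  have hκ0 : (κu : F) ≠ 0 := κu.ne_zero
  -- the torus element
  have hD : HQuad Q f (c 1) (c (1 + m)) (c 2) (c (2 + m)) :=
    { qp := fr.qc _ (by omega)
      qp' := fr.qc _ (by omega)
      qr := fr.qc _ (by omega)
      qr' := fr.qc _ (by omega)
      pp' := fr.pair _ (by omega)
      rr' := fr.pair _ (by omega)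
      pr := fr.orth _ _ (by omega) (by omega) (by omega) (by omega)
      pr' := fr.orth _ _ (by omega) (by omega) (by omega) (by omega)
      p'r := fr.orth _ _ (by omega) (by omega) (by omega) (by omega)
      p'r' := fr.orth _ _ (by omega) (by omega) (by omega) (by omega) }
  obtain ⟨h, hhG, hh1, hh2, hh3, hh4, hh5⟩ := H_exists hq hG hD (κu : F) hκ0
  -- the short root element
  have hq0 : Q (c 0) = 0 := fr.qc 0 (by omega)
  have hc0d : f (c 0) d = 0 := fr.cd 0 (by omega)
  obtain ⟨x, hxG, hx⟩ := exists_isSv hq vf hG hq0 hc0d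
  -- the Coxeter element
  obtain ⟨nn, hnG, hnc, δ, hδ, hnd⟩ := cox_exists hq vf hG fr (by omega : 1 ≤ m)
  refine ⟨h * x, G.mul_mem hhG hxG, nn, hnG, ?_⟩
  have hHG : Subgroup.closure ({h * x, nn} : Set (Matrix.GeneralLinearGroup (Fin n) F)) ≤ G := by
    rw [Subgroup.closure_le]
    rintro y (rfl | rfl)
    · exact G.mul_mem hhG hxG
    · exact hnG
  refine le_antisymm hHG ?_
  generalize hH : Subgroup.closure ({h * x, nn} : Set (Matrix.GeneralLinearGroup (Fin n) F)) = H
    at hHG ⊢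
  have haH : h * x ∈ H := by
    rw [← hH]
    exact Subgroup.subset_closure (Set.mem_insert _ _)
  have hnH : nn ∈ H := by
    rw [← hH]
    exact Subgroup.subset_closure (Set.mem_insert_of_mem _ rfl)
  -- `h` is diagonal on the frame
  have hhd : (h : Matrix (Fin n) (Fin n) F) *ᵥ d = d :=
    hh5 d (fr.cd _ (by omega)) (fr.cd _ (by omega)) (fr.cd _ (by omega)) (fr.cd _ (by omega))
  have hhfix : ∀ a, a < 2 * m → a ≠ 1 → a ≠ 2 → a ≠ 1 + m → a ≠ 2 + m →
      (h : Matrix (Fin n) (Fin n) F) *ᵥ c a = c a := by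
    intro a ha a1 a2 a3 a4
    exact hh5 (c a) (fr.orth _ _ (by omega) ha (by omega) (by omega))
      (fr.orth _ _ (by omega) ha (by omega) (by omega))
      (fr.orth _ _ (by omega) ha (by omega) (by omega))
      (fr.orth _ _ (by omega) ha (by omega) (by omega))
  have hdiag : ∀ a, a < 2 * m → ∃ μ : F, (h : Matrix (Fin n) (Fin n) F) *ᵥ c a = μ • c a := by
    intro a ha
    by_cases a1 : a = 1
    · subst a1; exact ⟨_, hh1⟩
    by_cases a2 : a = 2
    · subst a2; exact ⟨_, hh2⟩
    by_cases a3 : a = 1 + m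
    · subst a3; exact ⟨_, hh3⟩
    by_cases a4 : a = 2 + m
    · subst a4; exact ⟨_, hh4⟩
    · exact ⟨1, by rw [one_smul]; exact hhfix a ha a1 a2 a3 a4⟩
  have hhc0 : (h : Matrix (Fin n) (Fin n) F) *ᵥ c 0 = c 0 :=
    hhfix 0 (by omega) (by omega) (by omega) (by omega) (by omega)
  -- `h` and `x` commute
  have hcomm : Commute h x := by
    have h1 := isSv_conj hq (hG.iso h hhG) hx
    rw [hhc0, hhd] at h1
    have h3 : h * x * h⁻¹ = x := isSv_ext h1 hx
    show h * x = x * h
    conv_rhs => rw [← h3]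
    group
  -- powers
  have hxq : x ^ Fintype.card F = 1 := by
    have h1 := isSv_pow hq hq0 hc0d hx (Fintype.card F)
    rw [Nat.cast_card_eq_zero, zero_smul] at h1
    exact isSv_ext h1 (isSv_one hq _)
  have hhq : h ^ Fintype.card F = h := by
    apply fr.ext_gl
    · intro a ha
      obtain ⟨μ, hμ⟩ := hdiag a ha
      rw [pow_mulVec_eig h hμ, FiniteField.pow_card, hμ]
    · have h1 : (h : Matrix (Fin n) (Fin n) F) *ᵥ d = (1 : F) • d := by rw [one_smul, hhd]
      rw [pow_mulVec_eig h h1, one_pow, one_smul, hhd]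
  have hhH : h ∈ H := by
    have h1 := H.pow_mem haH (Fintype.card F)
    rw [hcomm.mul_pow, hhq, hxq, mul_one] at h1
    exact h1
  have hxH : x ∈ H := by
    have h1 := H.mul_mem (H.inv_mem hhH) haH
    rw [inv_mul_cancel_left] at h1
    exact h1
  -- the short root group at `c 1`
  obtain ⟨ε₀, hε₀, hn0⟩ := hnc 0 (by omega)
  have hcyc0 : cyc m 0 = 1 := by
    unfold cyc
    rw [if_pos (by omega)]
  rw [hcyc0] at hn0
  have hx' : IsSv Q f x (c 0) ((1 : F) • d) := by rw [one_smul]; exact hx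
  have hy₁ := isSv_conj_mono hq (hG.iso nn hnG) hn0 hnd hx'
  have hy₁H : nn * x * nn⁻¹ ∈ H := H.mul_mem (H.mul_mem hnH hxH) (H.inv_mem hnH)
  have hlam : ε₀ * δ * 1 ≠ 0 := by
    rw [mul_one]
    exact mul_ne_zero hε₀ hδ
  have hq1 : Q (c 1) = 0 := fr.qc 1 (by omega)
  have hFS1 : FS Q f c d H 1 := by
    intro k t ht
    by_cases hk : k = 0
    · subst hk
      rw [zero_smul] at ht
      rw [isSv_ext ht (isSv_one hq _)]
      exact H.one_mem
    · have hk' : k * (ε₀ * δ * 1)⁻¹ ≠ 0 := mul_ne_zero hk (inv_ne_zero hlam)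
      obtain ⟨j, hj⟩ := (Submonoid.mem_powers_iff _ _).1 (hκu (Units.mk0 _ hk'))
      have hj' : (κu : F) ^ j = k * (ε₀ * δ * 1)⁻¹ := by
        have := congrArg (fun u : Fˣ => (u : F)) hj
        simpa using this
      have e1 : ((h ^ j : Matrix.GeneralLinearGroup (Fin n) F) : Matrix (Fin n) (Fin n) F) *ᵥ c 1 =
          (κu : F) ^ j • c 1 := pow_mulVec_eig h hh1 j
      have e2 : ((h ^ j : Matrix.GeneralLinearGroup (Fin n) F) : Matrix (Fin n) (Fin n) F) *ᵥ d =
          (1 : F) • d := by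
        have h1 : (h : Matrix (Fin n) (Fin n) F) *ᵥ d = (1 : F) • d := by rw [one_smul, hhd]
        rw [pow_mulVec_eig h h1, one_pow]
      have hjH : h ^ j ∈ H := H.pow_mem hhH j
      have h3 := isSv_conj_mono hq (hG.iso _ (hHG hjH)) e1 e2 hy₁
      have e3 : (κu : F) ^ j * 1 * (ε₀ * δ * 1) = k := by
        rw [hj']
        field_simp
      rw [e3] at h3
      rw [isSv_ext ht h3]
      exact H.mul_mem (H.mul_mem hjH hy₁H) (H.inv_mem hjH)
  -- all short root groups
  have hFSpos : ∀ j, 1 ≤ j → j < 2 * m → FS Q f c d H j := by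
    intro j hj
    induction j, hj using Nat.le_induction with
    | base => exact fun _ => hFS1
    | succ j hj ih =>
      intro hj'
      obtain ⟨ε, hε, hnj⟩ := hnc j (by omega)
      have hcycj : cyc m j = j + 1 := by
        unfold cyc
        rw [if_pos hj']
      rw [hcycj] at hnj
      exact FS_conj hq vf hG fr hHG hnH (by omega) hε hδ hnj hnd (ih (by omega))
  have hFS0 : FS Q f c d H 0 := by
    obtain ⟨ε, hε, hnj⟩ := hnc (2 * m - 1) (by omega)
    have hcycj : cyc m (2 * m - 1) = 0 := by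
      unfold cyc
      rw [if_neg (by omega)]
    rw [hcycj] at hnj
    exact FS_conj hq vf hG fr hHG hnH (by omega) hε hδ hnj hnd (hFSpos _ (by omega) (by omega))
  have hFS : ∀ j, j < 2 * m → FS Q f c d H j := by
    intro j hj
    by_cases h0 : j = 0
    · subst h0; exact hFS0
    · exact hFSpos j (by omega) hj
  -- the radicals
  have hrad : ∀ a₀, a₀ < 2 * m → c a₀ ∈ XSQ Q f H := by
    intro a₀ ha₀
    refine rad hq vf hG fr ha₀ (hFS a₀ ha₀) (fun b hb hb1 hb2 => ?_)
    exact FL_of_FS hq vf h2 hG fr ha₀ hb hb1 hb2 (hFS a₀ ha₀) (hFS b hb)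
  have h0m : f (c 0) (c m) ≠ 0 := by
    have := fr.pair 0 (by omega)
    rw [zero_add] at this
    rw [this]
    exact one_ne_zero
  exact oppGen hq vf hG hHG (hrad 0 (by omega)) (hrad m (by omega)) h0m

end Cfsg.Agent.Lib.Helper29.OG
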