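import Cfsg.Agent.Lib.Helper29.OG.BW
import Cfsg.Agent.Lib.Helper29.OG.Cox2
import Cfsg.Agent.Lib.Helper29.OG.OddCore

/-!
# Two generators, odd characteristic: `a = h n₁ x`, `b` = Coxeter element
-/

set_option autoImplicit false

namespace Cfsg.Agent.Lib.Helper29.OG

open Matrix Cfsg.Agent.Lib.Helper28.HForm Cfsg.Agent.Lib.Helper28.OGen
  Cfsg.Agent.Lib.Helper28.OMax Cfsg.Agent.Lib.Helper28.OIwa Cfsg.Agent.Lib.Helper28.OQ
  Cfsg.Agent.Lib.Helper28.OMax2 Cfsg.Agent.Lib.Helper28.OIwa2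

variable {n : ℕ} {F : Type*} [Field F] {Q : (Fin n → F) → F}
  {f : (Fin n → F) → (Fin n → F) → F}
variable {m : ℕ} {c : ℕ → Fin n → F}

theorem sum_two_squares [Fintype F] (hodd : Fintype.card F % 2 = 1) (k : F) :
    ∃ s t : F, s ^ 2 + t ^ 2 = k := by
  have h1 : (Polynomial.X ^ 2 : Polynomial F).degree = 2 := Polynomial.degree_X_pow 2
  have h2 : (Polynomial.X ^ 2 - Polynomial.C k : Polynomial F).degree = 2 :=
    Polynomial.degree_X_pow_sub_C (by norm_num) k
  obtain ⟨s, t, hst⟩ := FiniteField.exists_root_sum_quadratic h1 h2 hodd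
  refine ⟨s, t, ?_⟩
  simp only [Polynomial.eval_pow, Polynomial.eval_X, Polynomial.eval_sub, Polynomial.eval_C] at hst
  linear_combination hst

theorem card_odd_of_two_ne_zero [Fintype F] (h2 : (2 : F) ≠ 0) : Fintype.card F % 2 = 1 := by
  by_contra h
  have h0 : Fintype.card F % 2 = 0 := by omega
  have h1 : ringChar F = 2 := FiniteField.even_card_iff_char_two.mpr h0
  apply h2
  have := ringChar.Nat.cast_ringChar (R := F)
  rw [h1] at this
  exact_mod_cast this

/-- one step along the Coxeter element. -/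
theorem SW_cox_step (hq : QF Q f) (vf : VFacts Q f)
    {G : Subgroup (Matrix.GeneralLinearGroup (Fin n) F)} (hG : SgGroupQ Q f G)
    (fr : PFrame Q f m c) {H : Subgroup (Matrix.GeneralLinearGroup (Fin n) F)} (hHG : H ≤ G)
    {d₁ : Fin n → F} {b : Matrix.GeneralLinearGroup (Fin n) F} (hbH : b ∈ H)
    (hb : Mono2 f m c (rfl1 f d₁) b (cyc m)) {a : ℕ} (ha : a < 2 * m) {w : Fin n → F}
    (hw : w ∈ Wp f m c) (h : SW Q f c H a w) : SW Q f c H (cyc m a) (rfl1 f d₁ w) := by
  obtain ⟨ε, hε, hba⟩ := hb.1 a ha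
  have h1 := SW_conj hq vf hG fr hHG ha hbH (hw a ha) hba h
  rw [hb.2 w hw] at h1
  rcases hε with rfl | rfl
  · rw [one_smul] at h1
    exact h1
  · have hcyc : cyc m a < 2 * m := by
      unfold cyc
      split_ifs <;> omega
    have h3 : f (c (cyc m a)) ((-1 : F) • rfl1 f d₁ w) = 0 := by
      rw [s_smul_right hq.sym]
      have e1 : (b : Matrix (Fin n) (Fin n) F) *ᵥ w = rfl1 f d₁ w := hb.2 w hw
      have e2 := iso_f hq b (hG.iso b (hHG hbH)) (c a) w
      rw [hba, e1, hq.sym.smul_left, hw a ha] at e2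
      have : f (c (cyc m a)) (rfl1 f d₁ w) = 0 := by
        rcases mul_eq_zero.1 e2 with h | h
        · exact absurd h (by norm_num)
        · exact h
      rw [this, mul_zero]
    have h2 := SW_neg hq vf hG fr hcyc h3 h1
    have e : -((-1 : F) • rfl1 f d₁ w) = rfl1 f d₁ w := by module
    rw [e] at h2
    exact h2

/-- one step backwards along the Coxeter element. -/
theorem SW_cox_back (hq : QF Q f) (vf : VFacts Q f)
    {G : Subgroup (Matrix.GeneralLinearGroup (Fin n) F)} (hG : SgGroupQ Q f G)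
    (fr : PFrame Q f m c) {H : Subgroup (Matrix.GeneralLinearGroup (Fin n) F)} (hHG : H ≤ G)
    {d₁ : Fin n → F} (hd₁ : Q d₁ = 1) (hd₁W : d₁ ∈ Wp f m c)
    {b : Matrix.GeneralLinearGroup (Fin n) F} (hbH : b ∈ H)
    (hb : Mono2 f m c (rfl1 f d₁) b (cyc m)) {a : ℕ} (ha : a < 2 * m) {w : Fin n → F}
    (hw : w ∈ Wp f m c) (h : SW Q f c H (cyc m a) w) : SW Q f c H a (rfl1 f d₁ w) := by
  have hf := hq.sym
  obtain ⟨ε, hε, hba⟩ := hb.1 a ha
  have hcyc : cyc m a < 2 * m := by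
    unfold cyc
    split_ifs <;> omega
  have hrw : rfl1 f d₁ w ∈ Wp f m c := rfl1_mem hf hd₁W hw
  have e1 : ((b⁻¹ : Matrix.GeneralLinearGroup (Fin n) F) : Matrix (Fin n) (Fin n) F) *ᵥ w =
      rfl1 f d₁ w := by
    have h1 := hb.2 _ hrw
    rw [rfl1_rfl1 hq hd₁] at h1
    have h2 := Cfsg.Agent.S5643.inv_mv b (rfl1 f d₁ w)
    rw [h1] at h2
    exact h2
  have e2 : ((b⁻¹ : Matrix.GeneralLinearGroup (Fin n) F) : Matrix (Fin n) (Fin n) F) *ᵥ
      c (cyc m a) = ε • c a := by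
    have h1 : c (cyc m a) = ε • ((b : Matrix (Fin n) (Fin n) F) *ᵥ c a) := by
      rw [hba, smul_smul]
      rcases hε with rfl | rfl <;> simp
    rw [h1, Matrix.mulVec_smul, Cfsg.Agent.S5643.inv_mv]
  have h1 := SW_conj hq vf hG fr hHG hcyc (H.inv_mem hbH) (hw _ hcyc) e2 h
  rw [e1] at h1
  rcases hε with rfl | rfl
  · rw [one_smul] at h1
    exact h1
  · have h3 : f (c a) ((-1 : F) • rfl1 f d₁ w) = 0 := by
      rw [s_smul_right hf, hrw a ha, mul_zero]
    have h2 := SW_neg hq vf hG fr ha h3 h1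
    have e : -((-1 : F) • rfl1 f d₁ w) = rfl1 f d₁ w := by module
    rw [e] at h2
    exact h2

/-- if one short root group is full, all are. -/
theorem FSW_all (hq : QF Q f) (vf : VFacts Q f)
    {G : Subgroup (Matrix.GeneralLinearGroup (Fin n) F)} (hG : SgGroupQ Q f G)
    (fr : PFrame Q f m c) {H : Subgroup (Matrix.GeneralLinearGroup (Fin n) F)} (hHG : H ≤ G)
    {d₁ : Fin n → F} (hd₁ : Q d₁ = 1) (hd₁W : d₁ ∈ Wp f m c)
    {b : Matrix.GeneralLinearGroup (Fin n) F} (hbH : b ∈ H)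
    (hb : Mono2 f m c (rfl1 f d₁) b (cyc m)) {a₁ : ℕ} (ha₁ : a₁ < 2 * m)
    (h : FSW Q f m c H a₁) : ∀ a, a < 2 * m → FSW Q f m c H a := by
  have hf := hq.sym
  have hstep : ∀ a, a < 2 * m → FSW Q f m c H a → FSW Q f m c H (cyc m a) := by
    intro a ha hFa w hw
    have h1 := SW_cox_step hq vf hG fr hHG hbH hb ha (rfl1_mem hf hd₁W hw)
      (hFa _ (rfl1_mem hf hd₁W hw))
    rw [rfl1_rfl1 hq hd₁] at h1
    exact h1
  have hup : ∀ a, a₁ ≤ a → a < 2 * m → FSW Q f m c H a := by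
    intro a ha
    induction a, ha using Nat.le_induction with
    | base => exact fun _ => h
    | succ a ha ih =>
      intro ha'
      have h1 := hstep a (by omega) (ih (by omega))
      have e : cyc m a = a + 1 := by
        unfold cyc
        rw [if_pos ha']
      rw [e] at h1
      exact h1
  have h0 : FSW Q f m c H 0 := by
    have h1 := hstep (2 * m - 1) (by omega) (hup _ (by omega) (by omega))
    have e : cyc m (2 * m - 1) = 0 := by
      unfold cyc
      rw [if_neg (by omega)]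
    rw [e] at h1
    exact h1
  have hup0 : ∀ a, 0 ≤ a → a < 2 * m → FSW Q f m c H a := by
    intro a ha
    induction a, ha using Nat.le_induction with
    | base => exact fun _ => h0
    | succ a ha ih =>
      intro ha'
      have h1 := hstep a (by omega) (ih (by omega))
      have e : cyc m a = a + 1 := by
        unfold cyc
        rw [if_pos ha']
      rw [e] at h1
      exact h1
  exact fun a ha => hup0 a (Nat.zero_le a) ha

/-- **Two generators, odd characteristic.** -/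
theorem two_gen_Y [Fintype F] (hq : QF Q f) (vf : VFacts Q f)
    {G : Subgroup (Matrix.GeneralLinearGroup (Fin n) F)} (hG : SgGroupQ Q f G)
    (h2 : (2 : F) ≠ 0) (hm : 3 ≤ m) (fr : PFrame Q f m c) {d₁ d₂ : Fin n → F}
    (hd₁ : Q d₁ = 1) (hd₁W : d₁ ∈ Wp f m c) (hd₂W : d₂ ∈ Wp f m c) (hal : f d₁ d₂ ≠ 0)
    (hspan : ∀ w ∈ Wp f m c, ∃ s t : F, w = s • d₁ + t • d₂) :
    ∃ a ∈ G, ∃ b ∈ G,
      Subgroup.closure ({a, b} : Set (Matrix.GeneralLinearGroup (Fin n) F)) = G := by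
  classical
  have hf := hq.sym
  have hqodd := card_odd_of_two_ne_zero h2
  obtain ⟨κu, hκu⟩ := IsCyclic.exists_monoid_generator (α := Fˣ)
  have hκ0 : (κu : F) ≠ 0 := κu.ne_zero
  generalize hκ : (κu : F) = κ at hκ0
  -- the torus element
  have hD : HQuad Q f (c 1) (c (1 + m)) (c 2) (c (2 + m)) :=
    { qp := fr.qc _ (by omega)
      qp' := fr.qc _ (by omega)
      qr := fr.qc _ (by omega)
      qr' := fr.qc _ (by omega)
      pp' := fr.pair _ (by omega)
      rr' := fr.pair _ (by omega)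
      pr := fr.orth _ _ (by omega) (by omega) (by omega) (by omega)
      pr' := fr.orth _ _ (by omega) (by omega) (by omega) (by omega)
      p'r := fr.orth _ _ (by omega) (by omega) (by omega) (by omega)
      p'r' := fr.orth _ _ (by omega) (by omega) (by omega) (by omega) }
  obtain ⟨h, hhG, hh1, hh2, hh3, hh4, hh5⟩ := H_exists hq hG hD κ hκ0
  -- the Weyl element swapping indices 1 and 2
  have hD' : HQuad Q f (c 1) (c (1 + m)) (c (2 + m)) (c 2) :=
    { qp := fr.qc _ (by omega)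
      qp' := fr.qc _ (by omega)
      qr := fr.qc _ (by omega)
      qr' := fr.qc _ (by omega)
      pp' := fr.pair _ (by omega)
      rr' := fr.pair' hq (by omega)
      pr := fr.orth _ _ (by omega) (by omega) (by omega) (by omega)
      pr' := fr.orth _ _ (by omega) (by omega) (by omega) (by omega)
      p'r := fr.orth _ _ (by omega) (by omega) (by omega) (by omega)
      p'r' := fr.orth _ _ (by omega) (by omega) (by omega) (by omega) }
  obtain ⟨n₁, hn₁G, hn1, hn2, hn3, hn4, hn5⟩ := W_exists hq hG hD' 1 1 (one_mul 1)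
  -- `y = h n₁`
  have hyG : h * n₁ ∈ G := G.mul_mem hhG hn₁G
  have hy1 : ((h * n₁ : Matrix.GeneralLinearGroup (Fin n) F) : Matrix (Fin n) (Fin n) F) *ᵥ c 1 =
      κ • c 2 := by
    rw [Cfsg.Agent.S5643.mul_mv, hn1, one_smul, hh2]
  have hy2 : ((h * n₁ : Matrix.GeneralLinearGroup (Fin n) F) : Matrix (Fin n) (Fin n) F) *ᵥ c 2 =
      (-κ) • c 1 := by
    rw [Cfsg.Agent.S5643.mul_mv, hn2, Matrix.mulVec_smul, hh1]
    module
  have hy3 : ((h * n₁ : Matrix.GeneralLinearGroup (Fin n) F) : Matrix (Fin n) (Fin n) F) *ᵥ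
      c (1 + m) = κ⁻¹ • c (2 + m) := by
    rw [Cfsg.Agent.S5643.mul_mv, hn4, one_smul, hh4]
  have hy4 : ((h * n₁ : Matrix.GeneralLinearGroup (Fin n) F) : Matrix (Fin n) (Fin n) F) *ᵥ
      c (2 + m) = (-κ⁻¹) • c (1 + m) := by
    rw [Cfsg.Agent.S5643.mul_mv, hn3, Matrix.mulVec_smul, hh3]
    module
  have hy5 : ∀ z, f (c 1) z = 0 → f (c (1 + m)) z = 0 → f (c 2) z = 0 → f (c (2 + m)) z = 0 →
      ((h * n₁ : Matrix.GeneralLinearGroup (Fin n) F) : Matrix (Fin n) (Fin n) F) *ᵥ z = z := by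
    intro z z1 z2 z3 z4
    rw [Cfsg.Agent.S5643.mul_mv, hn5 z z1 z2 z4 z3, hh5 z z1 z2 z3 z4]
  generalize hy : h * n₁ = y at hyG hy1 hy2 hy3 hy4 hy5
  have hyfix : ∀ a, a < 2 * m → a ≠ 1 → a ≠ 2 → a ≠ 1 + m → a ≠ 2 + m →
      (y : Matrix (Fin n) (Fin n) F) *ᵥ c a = c a := by
    intro a ha a1 a2 a3 a4
    exact hy5 (c a) (fr.orth _ _ (by omega) ha (by omega) (by omega))
      (fr.orth _ _ (by omega) ha (by omega) (by omega))
      (fr.orth _ _ (by omega) ha (by omega) (by omega))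
      (fr.orth _ _ (by omega) ha (by omega) (by omega))
  have hyW : ∀ w ∈ Wp f m c, (y : Matrix (Fin n) (Fin n) F) *ᵥ w = w := fun w hw =>
    hy5 w (hw _ (by omega)) (hw _ (by omega)) (hw _ (by omega)) (hw _ (by omega))
  -- `y * y` is diagonal
  have hyy : ∀ a, a < 2 * m → ∃ μ : F, μ ≠ 0 ∧
      ((y * y : Matrix.GeneralLinearGroup (Fin n) F) : Matrix (Fin n) (Fin n) F) *ᵥ c a =
        μ • c a := by
    intro a ha
    by_cases a1 : a = 1
    · subst a1
      refine ⟨-(κ * κ), neg_ne_zero.2 (mul_ne_zero hκ0 hκ0), ?_⟩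
      rw [Cfsg.Agent.S5643.mul_mv, hy1, Matrix.mulVec_smul, hy2]
      module
    by_cases a2 : a = 2
    · subst a2
      refine ⟨-(κ * κ), neg_ne_zero.2 (mul_ne_zero hκ0 hκ0), ?_⟩
      rw [Cfsg.Agent.S5643.mul_mv, hy2, Matrix.mulVec_smul, hy1]
      module
    by_cases a3 : a = 1 + m
    · subst a3
      refine ⟨-(κ⁻¹ * κ⁻¹), neg_ne_zero.2 (mul_ne_zero (inv_ne_zero hκ0) (inv_ne_zero hκ0)), ?_⟩
      rw [Cfsg.Agent.S5643.mul_mv, hy3, Matrix.mulVec_smul, hy4]
      module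
    by_cases a4 : a = 2 + m
    · subst a4
      refine ⟨-(κ⁻¹ * κ⁻¹), neg_ne_zero.2 (mul_ne_zero (inv_ne_zero hκ0) (inv_ne_zero hκ0)), ?_⟩
      rw [Cfsg.Agent.S5643.mul_mv, hy4, Matrix.mulVec_smul, hy3]
      module
    · refine ⟨1, one_ne_zero, ?_⟩
      rw [Cfsg.Agent.S5643.mul_mv, hyfix a ha a1 a2 a3 a4, hyfix a ha a1 a2 a3 a4, one_smul]
  have hyyq : (y * y) ^ (Fintype.card F - 1) = 1 := by
    apply fr.ext_gl hq
    · intro a ha
      obtain ⟨μ, hμ0, hμ⟩ := hyy a ha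
      rw [pow_mulVec_eig _ hμ, FiniteField.pow_card_sub_one_eq_one μ hμ0, one_smul,
        Units.val_one, Matrix.one_mulVec]
    · intro w hw
      have h1 : ((y * y : Matrix.GeneralLinearGroup (Fin n) F) : Matrix (Fin n) (Fin n) F) *ᵥ w =
          (1 : F) • w := by
        rw [Cfsg.Agent.S5643.mul_mv, hyW w hw, hyW w hw, one_smul]
      rw [pow_mulVec_eig _ h1, one_pow, one_smul, Units.val_one, Matrix.one_mulVec]
  have hyqq : y ^ (Fintype.card F * Fintype.card F) = y := by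
    obtain ⟨i, hi⟩ : ∃ i, Fintype.card F = i + 1 :=
      ⟨Fintype.card F - 1, by have := Fintype.card_pos (α := F); omega⟩
    obtain ⟨j, hj⟩ : ∃ j, i + 2 = 2 * j := ⟨(i + 2) / 2, by omega⟩
    have e : Fintype.card F * Fintype.card F = 2 * ((Fintype.card F - 1) * j) + 1 := by
      rw [hi]
      have : i + 1 - 1 = i := by omega
      rw [this]
      nlinarith
    rw [e, pow_succ, pow_mul, pow_two, pow_mul, hyyq, one_pow, one_mul]
  -- the root element
  have hq0 : Q (c 0) = 0 := fr.qc 0 (by omega)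
  have hc0d : f (c 0) d₂ = 0 := hd₂W 0 (by omega)
  obtain ⟨x, hxG, hx⟩ := exists_isSv hq vf hG hq0 hc0d
  -- the Coxeter element
  obtain ⟨b, hbG, hb⟩ := cox2_exists hq vf hG fr (by omega : 1 ≤ m) hd₁ hd₁W
  refine ⟨y * x, G.mul_mem hyG hxG, b, hbG, ?_⟩
  have hHG : Subgroup.closure ({y * x, b} : Set (Matrix.GeneralLinearGroup (Fin n) F)) ≤ G := by
    rw [Subgroup.closure_le]
    rintro z (rfl | rfl)
    · exact G.mul_mem hyG hxG
    · exact hbG
  refine le_antisymm hHG ?_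
  generalize hH : Subgroup.closure ({y * x, b} : Set (Matrix.GeneralLinearGroup (Fin n) F)) = H
    at hHG ⊢
  have haH : y * x ∈ H := by
    rw [← hH]
    exact Subgroup.subset_closure (Set.mem_insert _ _)
  have hbH : b ∈ H := by
    rw [← hH]
    exact Subgroup.subset_closure (Set.mem_insert_of_mem _ rfl)
  -- `y` and `x` commute
  have hyc0 : (y : Matrix (Fin n) (Fin n) F) *ᵥ c 0 = c 0 :=
    hyfix 0 (by omega) (by omega) (by omega) (by omega) (by omega)
  have hcomm : Commute y x := by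
    have h1 := isSv_conj hq (hG.iso y hyG) hx
    rw [hyc0, hyW d₂ hd₂W] at h1
    have h3 : y * x * y⁻¹ = x := isSv_ext h1 hx
    show y * x = x * y
    conv_rhs => rw [← h3]
    group
  have hxq : x ^ Fintype.card F = 1 := by
    have h1 := isSv_pow hq hq0 hc0d hx (Fintype.card F)
    rw [Nat.cast_card_eq_zero, zero_smul] at h1
    exact isSv_ext h1 (isSv_one hq _)
  have hyH : y ∈ H := by
    have h1 := H.pow_mem haH (Fintype.card F * Fintype.card F)
    rw [hcomm.mul_pow, hyqq, pow_mul, hxq, one_pow, mul_one] at h1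
    exact h1
  have hxH : x ∈ H := by
    have h1 := H.mul_mem (H.inv_mem hyH) haH
    rw [inv_mul_cancel_left] at h1
    exact h1
  -- the seed
  have hS0 : SW Q f c H 0 d₂ := by
    intro g hg
    rw [isSv_ext hg hx]
    exact hxH
  have hc1 : cyc m 0 = 1 := by
    unfold cyc
    rw [if_pos (by omega)]
  have hc2 : cyc m 1 = 2 := by
    unfold cyc
    rw [if_pos (by omega)]
  have hS1 : SW Q f c H 1 (rfl1 f d₁ d₂) := by
    have := SW_cox_step hq vf hG fr hHG hbH hb (by omega : 0 < 2 * m) hd₂W hS0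
    rw [hc1] at this
    exact this
  have hrd₂ : rfl1 f d₁ d₂ ∈ Wp f m c := rfl1_mem hf hd₁W hd₂W
  have hS2 : SW Q f c H 2 d₂ := by
    have := SW_cox_step hq vf hG fr hHG hbH hb (by omega : 1 < 2 * m) hrd₂ hS1
    rw [hc2, rfl1_rfl1 hq hd₁] at this
    exact this
  -- the map `T w = κ • r w` on index 2
  have hT : ∀ w ∈ Wp f m c, SW Q f c H 2 w → SW Q f c H 2 (κ • rfl1 f d₁ w) := by
    intro w hw hSw
    have h1 : SW Q f c H 1 (rfl1 f d₁ w) := by
      have := SW_cox_back hq vf hG fr hHG hd₁ hd₁W hbH hb (by omega : 1 < 2 * m) hw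
        (by rw [hc2]; exact hSw)
      exact this
    have hrw : rfl1 f d₁ w ∈ Wp f m c := rfl1_mem hf hd₁W hw
    have h3 := SW_conj hq vf hG fr hHG (by omega : 1 < 2 * m) hyH (hrw 1 (by omega)) hy1 h1
    rw [hyW _ hrw] at h3
    exact h3
  have hTT : ∀ w ∈ Wp f m c, SW Q f c H 2 w → SW Q f c H 2 ((κ * κ) • w) := by
    intro w hw hSw
    have h1 := hT w hw hSw
    have h3 := hT _ (Wp_smul hf κ (rfl1_mem hf hd₁W hw)) h1
    rw [rfl1_smul hf, rfl1_rfl1 hq hd₁, smul_smul] at h3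
    exact h3
  have hpow : ∀ w ∈ Wp f m c, SW Q f c H 2 w → ∀ i : ℕ, SW Q f c H 2 ((κ ^ i * κ ^ i) • w) := by
    intro w hw hSw i
    induction i with
    | zero =>
      rw [pow_zero, one_mul, one_smul]
      exact hSw
    | succ i ih =>
      have h1 := hTT _ (Wp_smul hf _ hw) ih
      rw [smul_smul] at h1
      have e : κ * κ * (κ ^ i * κ ^ i) = κ ^ (i + 1) * κ ^ (i + 1) := by ring
      rw [e] at h1
      exact h1
  have hsq : ∀ w ∈ Wp f m c, SW Q f c H 2 w → ∀ s : F, SW Q f c H 2 ((s ^ 2) • w) := by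
    intro w hw hSw s
    by_cases hs : s = 0
    · subst hs
      rw [zero_pow (by norm_num), zero_smul]
      exact SW_zero hq H 2
    · obtain ⟨i, hi⟩ := (Submonoid.mem_powers_iff _ _).1 (hκu (Units.mk0 s hs))
      have hi' : κ ^ i = s := by
        have := congrArg (fun u : Fˣ => (u : F)) hi
        simp only [Units.val_pow_eq_pow_val, Units.val_mk0] at this
        rw [hκ] at this
        exact this
      have h1 := hpow w hw hSw i
      rw [hi'] at h1
      rw [pow_two]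
      exact h1
  have hall : ∀ w ∈ Wp f m c, SW Q f c H 2 w → ∀ k : F, SW Q f c H 2 (k • w) := by
    intro w hw hSw k
    obtain ⟨s, t, hst⟩ := sum_two_squares hqodd k
    rw [← hst, add_smul]
    exact SW_add hq vf hG fr (by omega) (Wp_smul hf _ hw 2 (by omega))
      (Wp_smul hf _ hw 2 (by omega)) (hsq w hw hSw s) (hsq w hw hSw t)
  -- full short root group at index 2
  have hTd₂ : SW Q f c H 2 (κ • rfl1 f d₁ d₂) := hT d₂ hd₂W hS2
  have hF2 : FSW Q f m c H 2 := by
    intro w hw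
    obtain ⟨s, t, rfl⟩ := hspan w hw
    -- `s • d₁ = (s / al) • d₂ - (s / al) • r d₂`
    have hk : ∀ k : F, SW Q f c H 2 (k • d₁) := by
      intro k
      obtain ⟨r, rfl⟩ : ∃ r, k = r * f d₁ d₂ := ⟨k / f d₁ d₂, by field_simp⟩
      have h1 := hall d₂ hd₂W hS2 r
      have h3 := hall _ (Wp_smul hf κ hrd₂) hTd₂ (-r * κ⁻¹)
      have h4 := SW_add hq vf hG fr (by omega : 2 < 2 * m) (Wp_smul hf _ hd₂W 2 (by omega))
        (Wp_smul hf _ (Wp_smul hf κ hrd₂) 2 (by omega)) h1 h3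
      have e : r • d₂ + (-r * κ⁻¹) • κ • rfl1 f d₁ d₂ = (r * f d₁ d₂) • d₁ := by
        unfold rfl1
        have e1 : (-r * κ⁻¹) * κ = -r := by field_simp
        rw [smul_smul, e1]
        module
      rw [e] at h4
      exact h4
    exact SW_add hq vf hG fr (by omega : 2 < 2 * m) (Wp_smul hf _ hd₁W 2 (by omega))
      (Wp_smul hf _ hd₂W 2 (by omega)) (hk s) (hall d₂ hd₂W hS2 t)
  have hFall := FSW_all hq vf hG fr hHG hd₁ hd₁W hbH hb (by omega : 2 < 2 * m) hF2
  exact gen_of_FSW hq vf hG fr (by omega) hHG hFall hd₁W hd₂W hal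

end Cfsg.Agent.Lib.Helper29.OG
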