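import Cfsg.Agent.Lib.Helper29.OG.R2
import Cfsg.Agent.Lib.Helper29.OG.DesignY

/-!
# Two generators, `a = h x`, `b` = Coxeter element (used in characteristic two)
-/

set_option autoImplicit false

namespace Cfsg.Agent.Lib.Helper29.OG

open Matrix Cfsg.Agent.Lib.Helper28.HForm Cfsg.Agent.Lib.Helper28.OGen
  Cfsg.Agent.Lib.Helper28.OMax Cfsg.Agent.Lib.Helper28.OIwa Cfsg.Agent.Lib.Helper28.OQ
  Cfsg.Agent.Lib.Helper28.OMax2 Cfsg.Agent.Lib.Helper28.OIwa2

variable {n : ℕ} {F : Type*} [Field F] {Q : (Fin n → F) → F}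
  {f : (Fin n → F) → (Fin n → F) → F}
variable {m : ℕ} {c : ℕ → Fin n → F}

/-- long root group from a full line at `a` and one element at `b`. -/
theorem FL_of_SW (hq : QF Q f) (vf : VFacts Q f)
    {G : Subgroup (Matrix.GeneralLinearGroup (Fin n) F)} (hG : SgGroupQ Q f G)
    (fr : PFrame Q f m c) {H : Subgroup (Matrix.GeneralLinearGroup (Fin n) F)}
    {a b : ℕ} (ha : a < 2 * m) (hb : b < 2 * m) (hab : b ≠ a + m)
    (hba : a ≠ b + m) {w w' : Fin n → F} (hw : w ∈ Wp f m c) (hw' : w' ∈ Wp f m c)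
    (hww' : f w w' ≠ 0) (hFa : ∀ k : F, SW Q f c H a (k • w)) (hFb : SW Q f c H b w') :
    FL f c H a b := by
  have hf := hq.sym
  intro k t ht
  have hw1 : (k / f w w') • w ∈ Wp f m c := Wp_smul hf _ hw
  obtain ⟨A, hAG, hA⟩ := exists_isSv hq vf hG (fr.qc a ha) (hw1 a ha)
  obtain ⟨B, _, hB⟩ := exists_isSv hq vf hG (fr.qc b hb) (hw' b hb)
  have hAH := hFa _ A hA
  have hBH := hFb B hB
  have h1 := isSv_commutator hq (fr.qc a ha) (fr.qc b hb) (fr.orth a b ha hb hab hba) (hw1 a ha)
    (hw' a ha) (hw1 b hb) (hw' b hb) (hG.iso A hAG) hA hB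
  have e : f ((k / f w w') • w) w' = k := by
    rw [hf.smul_left]
    field_simp
  rw [e] at h1
  have h3 : t = A * B * A⁻¹ * B⁻¹ := gl_ext _ _ (fun x => by rw [ht x, h1 x])
  rw [h3]
  exact H.mul_mem (H.mul_mem (H.mul_mem hAH hBH) (H.inv_mem hAH)) (H.inv_mem hBH)

/-- two lines give the full short root group. -/
theorem FSW_of_lines (hq : QF Q f) (vf : VFacts Q f)
    {G : Subgroup (Matrix.GeneralLinearGroup (Fin n) F)} (hG : SgGroupQ Q f G)
    (fr : PFrame Q f m c) {H : Subgroup (Matrix.GeneralLinearGroup (Fin n) F)}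
    {d₁ d₂ : Fin n → F} (hd₁W : d₁ ∈ Wp f m c) (hd₂W : d₂ ∈ Wp f m c) (hal : f d₁ d₂ ≠ 0)
    (hspan : ∀ w ∈ Wp f m c, ∃ s t : F, w = s • d₁ + t • d₂) {a : ℕ} (ha : a < 2 * m)
    (h1 : ∀ k : F, SW Q f c H a (k • d₂)) (h2 : ∀ k : F, SW Q f c H a (k • rfl1 f d₁ d₂)) :
    FSW Q f m c H a := by
  have hf := hq.sym
  have hrd₂ : rfl1 f d₁ d₂ ∈ Wp f m c := rfl1_mem hf hd₁W hd₂W
  intro w hw
  obtain ⟨s, t, rfl⟩ := hspan w hw
  obtain ⟨r, rfl⟩ : ∃ r, s = r * f d₁ d₂ := ⟨s / f d₁ d₂, by field_simp⟩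
  have h4 := SW_add hq vf hG fr ha (Wp_smul hf _ hd₂W a ha) (Wp_smul hf _ hrd₂ a ha)
    (h1 (r + t)) (h2 (-r))
  have e : (r + t) • d₂ + (-r) • rfl1 f d₁ d₂ = (r * f d₁ d₂) • d₁ + t • d₂ := by
    unfold rfl1
    module
  rw [e] at h4
  exact h4

/-- **Two generators** `a = h x`, `b` Coxeter, under the nondegeneracy conditions on `d₂`. -/
theorem two_gen_EO [Fintype F] (hq : QF Q f) (vf : VFacts Q f)
    {G : Subgroup (Matrix.GeneralLinearGroup (Fin n) F)} (hG : SgGroupQ Q f G)
    (hm : 3 ≤ m) (fr : PFrame Q f m c) {d₁ d₂ : Fin n → F}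
    (hd₁ : Q d₁ = 1) (hd₁W : d₁ ∈ Wp f m c) (hd₂W : d₂ ∈ Wp f m c) (hal : f d₁ d₂ ≠ 0)
    (hφ : f d₂ (rfl1 f d₁ d₂) ≠ 0) (hQd : m % 2 = 1 → Q d₂ ≠ 0)
    (hspan : ∀ w ∈ Wp f m c, ∃ s t : F, w = s • d₁ + t • d₂) :
    ∃ a ∈ G, ∃ b ∈ G,
      Subgroup.closure ({a, b} : Set (Matrix.GeneralLinearGroup (Fin n) F)) = G := by
  classical
  have hf := hq.sym
  obtain ⟨κu, hκu⟩ := IsCyclic.exists_monoid_generator (α := Fˣ)
  have hκ0 : (κu : F) ≠ 0 := κu.ne_zero
  generalize hκ : (κu : F) = κ at hκ0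
  -- the torus element
  have hD : HQuad Q f (c 1) (c (1 + m)) (c 2) (c (2 + m)) :=
    { qp := fr.qc _ (by omega)
      qp' := fr.qc _ (by omega)
      qr := fr.qc _ (by omega)
      qr' := fr.qc _ (by omega)
      pp' := fr.pair _ (by omega)
      rr' := fr.pair _ (by omega)
      pr := fr.orth _ _ (by omega) (by omega) (by omega) (by omega)
      pr' := fr.orth _ _ (by omega) (by omega) (by omega) (by omega)
      p'r := fr.orth _ _ (by omega) (by omega) (by omega) (by omega)
      p'r' := fr.orth _ _ (by omega) (by omega) (by omega) (by omega) }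
  obtain ⟨h, hhG, hh1, hh2, hh3, hh4, hh5⟩ := H_exists hq hG hD κ hκ0
  have hhfix : ∀ a, a < 2 * m → a ≠ 1 → a ≠ 2 → a ≠ 1 + m → a ≠ 2 + m →
      (h : Matrix (Fin n) (Fin n) F) *ᵥ c a = c a := by
    intro a ha a1 a2 a3 a4
    exact hh5 (c a) (fr.orth _ _ (by omega) ha (by omega) (by omega))
      (fr.orth _ _ (by omega) ha (by omega) (by omega))
      (fr.orth _ _ (by omega) ha (by omega) (by omega))
      (fr.orth _ _ (by omega) ha (by omega) (by omega))
  have hhW : ∀ w ∈ Wp f m c, (h : Matrix (Fin n) (Fin n) F) *ᵥ w = w := fun w hw =>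
    hh5 w (hw _ (by omega)) (hw _ (by omega)) (hw _ (by omega)) (hw _ (by omega))
  have hdiag : ∀ a, a < 2 * m → ∃ μ : F, (h : Matrix (Fin n) (Fin n) F) *ᵥ c a = μ • c a := by
    intro a ha
    by_cases a1 : a = 1
    · subst a1; exact ⟨_, hh1⟩
    by_cases a2 : a = 2
    · subst a2; exact ⟨_, hh2⟩
    by_cases a3 : a = 1 + m
    · subst a3; exact ⟨_, hh3⟩
    by_cases a4 : a = 2 + m
    · subst a4; exact ⟨_, hh4⟩
    · exact ⟨1, by rw [one_smul]; exact hhfix a ha a1 a2 a3 a4⟩
  have hhq : h ^ Fintype.card F = h := by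
    apply fr.ext_gl hq
    · intro a ha
      obtain ⟨μ, hμ⟩ := hdiag a ha
      rw [pow_mulVec_eig h hμ, FiniteField.pow_card, hμ]
    · intro w hw
      have h1 : (h : Matrix (Fin n) (Fin n) F) *ᵥ w = (1 : F) • w := by rw [one_smul, hhW w hw]
      rw [pow_mulVec_eig h h1, one_pow, one_smul, hhW w hw]
  -- the root element
  have hq0 : Q (c 0) = 0 := fr.qc 0 (by omega)
  have hc0d : f (c 0) d₂ = 0 := hd₂W 0 (by omega)
  obtain ⟨x, hxG, hx⟩ := exists_isSv hq vf hG hq0 hc0d
  -- the Coxeter element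
  obtain ⟨b, hbG, hb⟩ := cox2_exists hq vf hG fr (by omega : 1 ≤ m) hd₁ hd₁W
  refine ⟨h * x, G.mul_mem hhG hxG, b, hbG, ?_⟩
  have hHG : Subgroup.closure ({h * x, b} : Set (Matrix.GeneralLinearGroup (Fin n) F)) ≤ G := by
    rw [Subgroup.closure_le]
    rintro z (rfl | rfl)
    · exact G.mul_mem hhG hxG
    · exact hbG
  refine le_antisymm hHG ?_
  generalize hH : Subgroup.closure ({h * x, b} : Set (Matrix.GeneralLinearGroup (Fin n) F)) = H
    at hHG ⊢
  have haH : h * x ∈ H := by
    rw [← hH]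
    exact Subgroup.subset_closure (Set.mem_insert _ _)
  have hbH : b ∈ H := by
    rw [← hH]
    exact Subgroup.subset_closure (Set.mem_insert_of_mem _ rfl)
  have hhc0 : (h : Matrix (Fin n) (Fin n) F) *ᵥ c 0 = c 0 :=
    hhfix 0 (by omega) (by omega) (by omega) (by omega) (by omega)
  have hcomm : Commute h x := by
    have h1 := isSv_conj hq (hG.iso h hhG) hx
    rw [hhc0, hhW d₂ hd₂W] at h1
    have h3 : h * x * h⁻¹ = x := isSv_ext h1 hx
    show h * x = x * h
    conv_rhs => rw [← h3]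
    group
  have hxq : x ^ Fintype.card F = 1 := by
    have h1 := isSv_pow hq hq0 hc0d hx (Fintype.card F)
    rw [Nat.cast_card_eq_zero, zero_smul] at h1
    exact isSv_ext h1 (isSv_one hq _)
  have hhH : h ∈ H := by
    have h1 := H.pow_mem haH (Fintype.card F)
    rw [hcomm.mul_pow, hhq, hxq, mul_one] at h1
    exact h1
  have hxH : x ∈ H := by
    have h1 := H.mul_mem (H.inv_mem hhH) haH
    rw [inv_mul_cancel_left] at h1
    exact h1
  -- the lines
  have hrd₂ : rfl1 f d₁ d₂ ∈ Wp f m c := rfl1_mem hf hd₁W hd₂W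
  have hS0 : SW Q f c H 0 d₂ := by
    intro g hg
    rw [isSv_ext hg hx]
    exact hxH
  have hc1 : cyc m 0 = 1 := by
    unfold cyc
    rw [if_pos (by omega)]
  have hS1 : SW Q f c H 1 (rfl1 f d₁ d₂) := by
    have := SW_cox_step hq vf hG fr hHG hbH hb (by omega : 0 < 2 * m) hd₂W hS0
    rw [hc1] at this
    exact this
  have hS1pow : ∀ j : ℕ, SW Q f c H 1 (κ ^ j • rfl1 f d₁ d₂) := by
    intro j
    induction j with
    | zero =>
      rw [pow_zero, one_smul]
      exact hS1
    | succ j ih =>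
      have hw : κ ^ j • rfl1 f d₁ d₂ ∈ Wp f m c := Wp_smul hf _ hrd₂
      have h3 := SW_conj hq vf hG fr hHG (by omega : 1 < 2 * m) hhH (hw 1 (by omega)) hh1 ih
      rw [hhW _ hw, smul_smul, ← pow_succ'] at h3
      exact h3
  -- the line predicate
  obtain ⟨u, hu⟩ : ∃ u : ℕ → Fin n → F, ∀ a, u a = if a % 2 = 0 then d₂ else rfl1 f d₁ d₂ :=
    ⟨_, fun _ => rfl⟩
  have hu0 : ∀ a, a % 2 = 0 → u a = d₂ := fun a ha => by rw [hu, if_pos ha]
  have hu1 : ∀ a, a % 2 = 1 → u a = rfl1 f d₁ d₂ := fun a ha => by rw [hu, if_neg (by omega)]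
  have huW : ∀ a, u a ∈ Wp f m c := by
    intro a
    rcases Nat.mod_two_eq_zero_or_one a with h | h
    · rw [hu0 a h]; exact hd₂W
    · rw [hu1 a h]; exact hrd₂
  have hur : ∀ a a', a % 2 ≠ a' % 2 → rfl1 f d₁ (u a) = u a' := by
    intro a a' haa'
    rcases Nat.mod_two_eq_zero_or_one a with h | h
    · rw [hu0 a h, hu1 a' (by omega)]
    · rw [hu1 a h, hu0 a' (by omega), rfl1_rfl1 hq hd₁]
  have hLN1 : ∀ k : F, SW Q f c H 1 (k • u 1) := by
    intro k
    rw [hu1 1 (by norm_num)]
    by_cases hk : k = 0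
    · subst hk
      rw [zero_smul]
      exact SW_zero hq H 1
    · obtain ⟨j, hj⟩ := (Submonoid.mem_powers_iff _ _).1 (hκu (Units.mk0 k hk))
      have hj' : κ ^ j = k := by
        have := congrArg (fun u : Fˣ => (u : F)) hj
        simp only [Units.val_pow_eq_pow_val, Units.val_mk0] at this
        rw [hκ] at this
        exact this
      rw [← hj']
      exact hS1pow j
  have hcycpar : ∀ a, a < 2 * m → (cyc m a) % 2 ≠ a % 2 ∧ cyc m a < 2 * m := by
    intro a ha
    unfold cyc
    split_ifs <;> omega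
  have hLNstep : ∀ a, a < 2 * m → (∀ k : F, SW Q f c H a (k • u a)) →
      ∀ k : F, SW Q f c H (cyc m a) (k • u (cyc m a)) := by
    intro a ha hLa k
    have h1 := SW_cox_step hq vf hG fr hHG hbH hb ha (Wp_smul hf k (huW a)) (hLa k)
    rw [rfl1_smul hf, hur a (cyc m a) (hcycpar a ha).1.symm] at h1
    exact h1
  have hLNup : ∀ a, 1 ≤ a → a < 2 * m → ∀ k : F, SW Q f c H a (k • u a) := by
    intro a ha
    induction a, ha using Nat.le_induction with
    | base => exact fun _ => hLN1
    | succ a ha ih =>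
      intro ha'
      have h1 := hLNstep a (by omega) (ih (by omega))
      have e : cyc m a = a + 1 := by
        unfold cyc
        rw [if_pos ha']
      rw [e] at h1
      exact h1
  have hLN : ∀ a, a < 2 * m → ∀ k : F, SW Q f c H a (k • u a) := by
    intro a ha
    by_cases h0 : a = 0
    · subst h0
      have h1 := hLNstep (2 * m - 1) (by omega) (hLNup _ (by omega) (by omega))
      have e : cyc m (2 * m - 1) = 0 := by
        unfold cyc
        rw [if_neg (by omega)]
      rw [e] at h1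
      exact h1
    · exact hLNup a (by omega) ha
  have hLN1' : ∀ a, a < 2 * m → SW Q f c H a (u a) := by
    intro a ha
    have := hLN a ha 1
    rw [one_smul] at this
    exact this
  -- (A) long root groups for different parities
  have hφ' : ∀ a b, a % 2 ≠ b % 2 → f (u a) (u b) ≠ 0 := by
    intro a b hab
    rcases Nat.mod_two_eq_zero_or_one a with h | h
    · rw [hu0 a h, hu1 b (by omega)]
      exact hφ
    · rw [hu1 a h, hu0 b (by omega), s_symm hf]
      exact hφ
  have hA : ∀ a b, a < 2 * m → b < 2 * m → a % 2 ≠ b % 2 → b ≠ a + m → a ≠ b + m →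
      FL f c H a b := by
    intro a b ha hb hpar hab hba
    exact FL_of_SW hq vf hG fr ha hb hab hba (huW a) (huW b) (hφ' a b hpar) (hLN a ha) (hLN1' b hb)
  -- the other line at every index
  have hother : ∀ a, a < 2 * m → ∀ k : F, SW Q f c H a (k • u (a + 1)) := by
    intro a ha
    rcases Nat.mod_two_eq_zero_or_one m with hme | hmo
    · -- `m` even
      obtain ⟨hbpar, hb⟩ := hcycpar a ha
      have hpb : pr m (cyc m a) < 2 * m := pr_lt hb
      have hpbpar : (pr m (cyc m a)) % 2 = (cyc m a) % 2 := by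
        unfold pr
        split_ifs <;> omega
      have e : u (a + 1) = u (pr m (cyc m a)) := by
        rw [hu (a + 1), hu (pr m (cyc m a))]
        congr 1
        apply propext
        constructor <;> intro h <;> omega
      intro k
      rw [e]
      refine R2_S hq vf hG fr ha hb (by intro h; rw [← h] at hbpar; exact hbpar rfl)
        (by intro h; rw [← h] at hpbpar; omega) (huW _) ?_ (hLN1' _ hpb) ?_ k
      · refine hA a _ ha hb (Ne.symm hbpar) ?_ ?_ <;> omega
      · refine hA a _ ha hpb (by omega) ?_ ?_ <;> omega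
    · -- `m` odd
      have hQu : ∀ a, Q (u a) ≠ 0 := by
        intro a
        rcases Nat.mod_two_eq_zero_or_one a with h | h
        · rw [hu0 a h]; exact hQd hmo
        · rw [hu1 a h, rfl1_Q hq hd₁]; exact hQd hmo
      -- (B) long root groups for equal parities
      have hB : ∀ a e, a < 2 * m → e < 2 * m → a % 2 = e % 2 → e ≠ a → e ≠ a + m → a ≠ e + m →
          FL f c H a e := by
        intro a e ha he hpar hea hea1 hea2
        have hpe : pr m e < 2 * m := pr_lt he
        have hpepar : (pr m e) % 2 ≠ e % 2 := by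
          unfold pr
          split_ifs <;> omega
        have h1 := R2_T hq vf hG fr ha hpe (by intro h; rw [← h] at hpepar; omega)
          (by rw [pr_pr he]; exact Ne.symm hea) (huW a) ?_ ?_ (hLN a ha) (hQu a)
        · rw [pr_pr he] at h1
          exact h1
        · refine hA a _ ha hpe (by omega) ?_ ?_
          · unfold pr
            split_ifs <;> omega
          · unfold pr
            split_ifs <;> omega
        · rw [pr_pr he]
          have e1 : u a = u e := by
            rw [hu a, hu e, hpar]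
          rw [e1]
          exact hLN1' e he
      -- (C)
      obtain ⟨hbpar1, hb1⟩ := hcycpar a ha
      obtain ⟨hbpar2, hb2⟩ := hcycpar _ hb1
      have hbne : cyc m (cyc m a) ≠ a ∧ cyc m (cyc m a) ≠ a + m ∧ a ≠ cyc m (cyc m a) + m := by
        unfold cyc
        split_ifs <;> omega
      have hpb : pr m (cyc m (cyc m a)) < 2 * m := pr_lt hb2
      have hpbpar : (pr m (cyc m (cyc m a))) % 2 ≠ (cyc m (cyc m a)) % 2 := by
        unfold pr
        split_ifs <;> omega
      have e : u (a + 1) = u (pr m (cyc m (cyc m a))) := by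
        rw [hu (a + 1), hu (pr m (cyc m (cyc m a)))]
        congr 1
        apply propext
        constructor <;> intro h <;> omega
      intro k
      rw [e]
      refine R2_S hq vf hG fr ha hb2 (Ne.symm hbne.1)
        (by intro h; rw [← h] at hpbpar; omega) (huW _) ?_ (hLN1' _ hpb) ?_ k
      · exact hB a _ ha hb2 (by omega) hbne.1 hbne.2.1 hbne.2.2
      · refine hA a _ ha hpb (by omega) ?_ ?_
        · unfold pr
          split_ifs <;> omega
        · unfold pr
          split_ifs <;> omega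
  -- all short root groups are full
  have hF : ∀ a, a < 2 * m → FSW Q f m c H a := by
    intro a ha
    rcases Nat.mod_two_eq_zero_or_one a with h | h
    · refine FSW_of_lines hq vf hG fr hd₁W hd₂W hal hspan ha ?_ ?_
      · intro k
        have := hLN a ha k
        rw [hu0 a h] at this
        exact this
      · intro k
        have := hother a ha k
        rw [hu1 (a + 1) (by omega)] at this
        exact this
    · refine FSW_of_lines hq vf hG fr hd₁W hd₂W hal hspan ha ?_ ?_
      · intro k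
        have := hother a ha k
        rw [hu0 (a + 1) (by omega)] at this
        exact this
      · intro k
        have := hLN a ha k
        rw [hu1 a h] at this
        exact this
  exact gen_of_FSW hq vf hG fr (by omega) hHG hF hd₁W hd₂W hal

end Cfsg.Agent.Lib.Helper29.OG
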