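import Cfsg.Agent.Lib.Helper29.OG.DesignEO

/-!
# Two generators over the field with two elements: `a = σ x` (`σ` of order three), `b` = Coxeter
-/

set_option autoImplicit false

namespace Cfsg.Agent.Lib.Helper29.OG

open Matrix Cfsg.Agent.Lib.Helper28.HForm Cfsg.Agent.Lib.Helper28.OGen
  Cfsg.Agent.Lib.Helper28.OMax Cfsg.Agent.Lib.Helper28.OIwa Cfsg.Agent.Lib.Helper28.OQ
  Cfsg.Agent.Lib.Helper28.OMax2 Cfsg.Agent.Lib.Helper28.OIwa2

variable {n : ℕ} {F : Type*} [Field F] {Q : (Fin n → F) → F}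
  {f : (Fin n → F) → (Fin n → F) → F}
variable {m : ℕ} {c : ℕ → Fin n → F}

/-- **Two generators over `𝔽₂`.** -/
theorem two_gen_Z (hq : QF Q f) (vf : VFacts Q f)
    {G : Subgroup (Matrix.GeneralLinearGroup (Fin n) F)} (hG : SgGroupQ Q f G)
    (hF2 : ∀ k : F, k = 0 ∨ k = 1) (hm : 3 ≤ m) (fr : PFrame Q f m c) {d₁ d₂ : Fin n → F}
    (hd₁ : Q d₁ = 1) (hd₁W : d₁ ∈ Wp f m c) (hd₂W : d₂ ∈ Wp f m c) (hal : f d₁ d₂ ≠ 0)
    (hspan : ∀ w ∈ Wp f m c, ∃ s t : F, w = s • d₁ + t • d₂) :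
    ∃ a ∈ G, ∃ b ∈ G,
      Subgroup.closure ({a, b} : Set (Matrix.GeneralLinearGroup (Fin n) F)) = G := by
  classical
  have hf := hq.sym
  have h2 : (2 : F) = 0 := by
    rcases hF2 2 with h | h
    · exact h
    · exfalso
      have : (1 : F) = 0 := by linear_combination h
      exact one_ne_zero this
  have hneg : (-1 : F) = 1 := by linear_combination -h2
  -- the two root elements
  have hq1 := fr.qc 1 (by omega)
  have hq2 := fr.qc 2 (by omega)
  have hq1' := fr.qc (1 + m) (by omega)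
  have hq2' := fr.qc (2 + m) (by omega)
  have h12' : f (c 1) (c (2 + m)) = 0 := fr.orth _ _ (by omega) (by omega) (by omega) (by omega)
  have h21' : f (c 2) (c (1 + m)) = 0 := fr.orth _ _ (by omega) (by omega) (by omega) (by omega)
  have h12 : f (c 1) (c 2) = 0 := fr.orth _ _ (by omega) (by omega) (by omega) (by omega)
  have h21 : f (c 2) (c 1) = 0 := fr.orth _ _ (by omega) (by omega) (by omega) (by omega)
  have h1'2' : f (c (1 + m)) (c (2 + m)) = 0 :=
    fr.orth _ _ (by omega) (by omega) (by omega) (by omega)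
  have h2'1' : f (c (2 + m)) (c (1 + m)) = 0 :=
    fr.orth _ _ (by omega) (by omega) (by omega) (by omega)
  have h2'1 : f (c (2 + m)) (c 1) = 0 := fr.orth _ _ (by omega) (by omega) (by omega) (by omega)
  have h1'2 : f (c (1 + m)) (c 2) = 0 := fr.orth _ _ (by omega) (by omega) (by omega) (by omega)
  have h11' : f (c 1) (c (1 + m)) = 1 := fr.pair 1 (by omega)
  have h22' : f (c 2) (c (2 + m)) = 1 := fr.pair 2 (by omega)
  have h1'1 : f (c (1 + m)) (c 1) = 1 := fr.pair' hq (by omega)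
  have h2'2 : f (c (2 + m)) (c 2) = 1 := fr.pair' hq (by omega)
  have h11 := f_sing hq hq1
  have h22 := f_sing hq hq2
  have h1'1' := f_sing hq hq1'
  have h2'2' := f_sing hq hq2'
  obtain ⟨A, hA⟩ := hG.ex (c 1) (c (2 + m)) 1 hq1 hq2' h12'
  have hAG := hG.sg A _ _ 1 hq1 hq2' h12' hA
  obtain ⟨B, hB⟩ := hG.ex (c 2) (c (1 + m)) 1 hq2 hq1' h21'
  have hBG := hG.sg B _ _ 1 hq2 hq1' h21' hB
  have A1 : (A : Matrix (Fin n) (Fin n) F) *ᵥ c 1 = c 1 := by
    rw [hA, Tv_apply_of 1 h11 h2'1]; module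
  have A2 : (A : Matrix (Fin n) (Fin n) F) *ᵥ c 2 = c 2 + c 1 := by
    rw [hA, Tv_apply_of 1 h12 h2'2]
    have : (1 : F) • ((0 : F) • c (2 + m) - (1 : F) • c 1) = (-1 : F) • c 1 := by module
    rw [this, hneg, one_smul]
  have A1' : (A : Matrix (Fin n) (Fin n) F) *ᵥ c (1 + m) = c (1 + m) + c (2 + m) := by
    rw [hA, Tv_apply_of 1 h11' h2'1']; module
  have A2' : (A : Matrix (Fin n) (Fin n) F) *ᵥ c (2 + m) = c (2 + m) := by
    rw [hA, Tv_apply_of 1 h12' h2'2']; module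
  have B1 : (B : Matrix (Fin n) (Fin n) F) *ᵥ c 1 = c 1 + c 2 := by
    rw [hB, Tv_apply_of 1 h21 h1'1]
    have : (1 : F) • ((0 : F) • c (1 + m) - (1 : F) • c 2) = (-1 : F) • c 2 := by module
    rw [this, hneg, one_smul]
  have B2 : (B : Matrix (Fin n) (Fin n) F) *ᵥ c 2 = c 2 := by
    rw [hB, Tv_apply_of 1 h22 h1'2]; module
  have B1' : (B : Matrix (Fin n) (Fin n) F) *ᵥ c (1 + m) = c (1 + m) := by
    rw [hB, Tv_apply_of 1 h21' h1'1']; module
  have B2' : (B : Matrix (Fin n) (Fin n) F) *ᵥ c (2 + m) = c (2 + m) + c (1 + m) := by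
    rw [hB, Tv_apply_of 1 h22' h1'2']; module
  have hABfix : ∀ z, f (c 1) z = 0 → f (c (1 + m)) z = 0 → f (c 2) z = 0 → f (c (2 + m)) z = 0 →
      ((A * B : Matrix.GeneralLinearGroup (Fin n) F) : Matrix (Fin n) (Fin n) F) *ᵥ z = z := by
    intro z z1 z2 z3 z4
    have e1 : (B : Matrix (Fin n) (Fin n) F) *ᵥ z = z := by
      rw [hB, Tv_apply_of 1 z3 z2]; module
    have e2 : (A : Matrix (Fin n) (Fin n) F) *ᵥ z = z := by
      rw [hA, Tv_apply_of 1 z1 z4]; module
    rw [Cfsg.Agent.S5643.mul_mv, e1, e2]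
  have two_smul' : ∀ v : Fin n → F, v + v = 0 := by
    intro v
    have : v + v = (2 : F) • v := by module
    rw [this, h2, zero_smul]
  have s1 : ((A * B : Matrix.GeneralLinearGroup (Fin n) F) : Matrix (Fin n) (Fin n) F) *ᵥ c 1 =
      c 2 := by
    rw [Cfsg.Agent.S5643.mul_mv, B1, Matrix.mulVec_add, A1, A2]
    have : c 1 + (c 2 + c 1) = c 2 + (c 1 + c 1) := by abel
    rw [this, two_smul', add_zero]
  have s2 : ((A * B : Matrix.GeneralLinearGroup (Fin n) F) : Matrix (Fin n) (Fin n) F) *ᵥ c 2 =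
      c 2 + c 1 := by
    rw [Cfsg.Agent.S5643.mul_mv, B2, A2]
  have s1' : ((A * B : Matrix.GeneralLinearGroup (Fin n) F) : Matrix (Fin n) (Fin n) F) *ᵥ
      c (1 + m) = c (1 + m) + c (2 + m) := by
    rw [Cfsg.Agent.S5643.mul_mv, B1', A1']
  have s2' : ((A * B : Matrix.GeneralLinearGroup (Fin n) F) : Matrix (Fin n) (Fin n) F) *ᵥ
      c (2 + m) = c (1 + m) := by
    rw [Cfsg.Agent.S5643.mul_mv, B2', Matrix.mulVec_add, A2', A1']
    have : c (2 + m) + (c (1 + m) + c (2 + m)) = c (1 + m) + (c (2 + m) + c (2 + m)) := by abel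
    rw [this, two_smul', add_zero]
  have hσG : A * B ∈ G := G.mul_mem hAG hBG
  generalize hσ : A * B = σ at hABfix s1 s2 s1' s2' hσG
  have hσfix : ∀ a, a < 2 * m → a ≠ 1 → a ≠ 2 → a ≠ 1 + m → a ≠ 2 + m →
      (σ : Matrix (Fin n) (Fin n) F) *ᵥ c a = c a := by
    intro a ha a1 a2 a3 a4
    exact hABfix (c a) (fr.orth _ _ (by omega) ha (by omega) (by omega))
      (fr.orth _ _ (by omega) ha (by omega) (by omega))
      (fr.orth _ _ (by omega) ha (by omega) (by omega))
      (fr.orth _ _ (by omega) ha (by omega) (by omega))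
  have hσW : ∀ w ∈ Wp f m c, (σ : Matrix (Fin n) (Fin n) F) *ᵥ w = w := fun w hw =>
    hABfix w (hw _ (by omega)) (hw _ (by omega)) (hw _ (by omega)) (hw _ (by omega))
  have hσ3 : σ * σ * σ = 1 := by
    apply fr.ext_gl hq
    · intro a ha
      rw [Units.val_one, Matrix.one_mulVec, Cfsg.Agent.S5643.mul_mv, Cfsg.Agent.S5643.mul_mv]
      by_cases a1 : a = 1
      · subst a1
        simp only [s1, s2, Matrix.mulVec_add]
        apply eq_of_sub_eq_smul (p := c 2) h2
        module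
      by_cases a2 : a = 2
      · subst a2
        simp only [s1, s2, Matrix.mulVec_add]
        apply eq_of_sub_eq_smul (p := c 1 + c 2) h2
        module
      by_cases a3 : a = 1 + m
      · subst a3
        simp only [s1', s2', Matrix.mulVec_add]
        apply eq_of_sub_eq_smul (p := c (1 + m) + c (2 + m)) h2
        module
      by_cases a4 : a = 2 + m
      · subst a4
        simp only [s1', s2', Matrix.mulVec_add]
        apply eq_of_sub_eq_smul (p := c (1 + m)) h2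
        module
      · rw [hσfix a ha a1 a2 a3 a4, hσfix a ha a1 a2 a3 a4, hσfix a ha a1 a2 a3 a4]
    · intro w hw
      rw [Units.val_one, Matrix.one_mulVec, Cfsg.Agent.S5643.mul_mv, Cfsg.Agent.S5643.mul_mv,
        hσW w hw, hσW w hw, hσW w hw]
  -- the root element
  have hq0 : Q (c 0) = 0 := fr.qc 0 (by omega)
  have hc0d : f (c 0) d₂ = 0 := hd₂W 0 (by omega)
  obtain ⟨x, hxG, hx⟩ := exists_isSv hq vf hG hq0 hc0d
  have hx2 : x * x = 1 := by
    have h1 := isSv_pow hq hq0 hc0d hx 2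
    rw [Nat.cast_ofNat, h2, zero_smul, pow_two] at h1
    exact isSv_ext h1 (isSv_one hq _)
  -- the Coxeter element
  obtain ⟨b, hbG, hb⟩ := cox2_exists hq vf hG fr (by omega : 1 ≤ m) hd₁ hd₁W
  refine ⟨σ * x, G.mul_mem hσG hxG, b, hbG, ?_⟩
  have hHG : Subgroup.closure ({σ * x, b} : Set (Matrix.GeneralLinearGroup (Fin n) F)) ≤ G := by
    rw [Subgroup.closure_le]
    rintro z (rfl | rfl)
    · exact G.mul_mem hσG hxG
    · exact hbG
  refine le_antisymm hHG ?_
  generalize hH : Subgroup.closure ({σ * x, b} : Set (Matrix.GeneralLinearGroup (Fin n) F)) = H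
    at hHG ⊢
  have haH : σ * x ∈ H := by
    rw [← hH]
    exact Subgroup.subset_closure (Set.mem_insert _ _)
  have hbH : b ∈ H := by
    rw [← hH]
    exact Subgroup.subset_closure (Set.mem_insert_of_mem _ rfl)
  have hσc0 : (σ : Matrix (Fin n) (Fin n) F) *ᵥ c 0 = c 0 :=
    hσfix 0 (by omega) (by omega) (by omega) (by omega) (by omega)
  have hcomm : Commute σ x := by
    have h1 := isSv_conj hq (hG.iso σ hσG) hx
    rw [hσc0, hσW d₂ hd₂W] at h1
    have h3 : σ * x * σ⁻¹ = x := isSv_ext h1 hx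
    show σ * x = x * σ
    conv_rhs => rw [← h3]
    group
  have hσH : σ ∈ H := by
    have h1 := H.pow_mem haH 4
    have e : (σ * x) ^ 4 = σ := by
      rw [hcomm.mul_pow]
      have e1 : σ ^ 4 = σ := by
        have : σ ^ 4 = σ * σ * σ * σ := by rw [pow_succ, pow_succ, pow_succ, pow_one]
        rw [this, hσ3, one_mul]
      have e2 : x ^ 4 = 1 := by
        have : x ^ 4 = x * x * (x * x) := by
          rw [pow_succ, pow_succ, pow_succ, pow_one, mul_assoc (x * x) x x]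
        rw [this, hx2, one_mul]
      rw [e1, e2, mul_one]
    rw [e] at h1
    exact h1
  have hxH : x ∈ H := by
    have h1 := H.mul_mem (H.inv_mem hσH) haH
    rw [inv_mul_cancel_left] at h1
    exact h1
  -- the lines at index 2
  have hrd₂ : rfl1 f d₁ d₂ ∈ Wp f m c := rfl1_mem hf hd₁W hd₂W
  have hS0 : SW Q f c H 0 d₂ := by
    intro g hg
    rw [isSv_ext hg hx]
    exact hxH
  have hc1 : cyc m 0 = 1 := by
    unfold cyc
    rw [if_pos (by omega)]
  have hc2 : cyc m 1 = 2 := by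
    unfold cyc
    rw [if_pos (by omega)]
  have hS1 : SW Q f c H 1 (rfl1 f d₁ d₂) := by
    have := SW_cox_step hq vf hG fr hHG hbH hb (by omega : 0 < 2 * m) hd₂W hS0
    rw [hc1] at this
    exact this
  have hS2 : SW Q f c H 2 d₂ := by
    have := SW_cox_step hq vf hG fr hHG hbH hb (by omega : 1 < 2 * m) hrd₂ hS1
    rw [hc2, rfl1_rfl1 hq hd₁] at this
    exact this
  have hS2' : SW Q f c H 2 (rfl1 f d₁ d₂) := by
    have s1'' : (σ : Matrix (Fin n) (Fin n) F) *ᵥ c 1 = (1 : F) • c 2 := by rw [one_smul, s1]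
    have h3 := SW_conj hq vf hG fr hHG (by omega : 1 < 2 * m) hσH (hrd₂ 1 (by omega)) s1'' hS1
    rw [hσW _ hrd₂, one_smul] at h3
    exact h3
  have hline : ∀ w : Fin n → F, SW Q f c H 2 w → ∀ k : F, SW Q f c H 2 (k • w) := by
    intro w hw k
    rcases hF2 k with rfl | rfl
    · rw [zero_smul]
      exact SW_zero hq H 2
    · rw [one_smul]
      exact hw
  have hF2' : FSW Q f m c H 2 :=
    FSW_of_lines hq vf hG fr hd₁W hd₂W hal hspan (by omega) (hline _ hS2) (hline _ hS2')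
  have hFall := FSW_all hq vf hG fr hHG hd₁ hd₁W hbH hb (by omega : 2 < 2 * m) hF2'
  exact gen_of_FSW hq vf hG fr (by omega) hHG hFall hd₁W hd₂W hal

end Cfsg.Agent.Lib.Helper29.OG
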