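import Cfsg.Agent.Lib.Helper29.OG.Sv

/-!
# Two opposite full Siegel radicals generate the Siegel group
-/

set_option autoImplicit false

namespace Cfsg.Agent.Lib.Helper29.OG

open Matrix Cfsg.Agent.Lib.Helper28.HForm Cfsg.Agent.Lib.Helper28.OGen
  Cfsg.Agent.Lib.Helper28.OMax Cfsg.Agent.Lib.Helper28.OIwa Cfsg.Agent.Lib.Helper28.OQ
  Cfsg.Agent.Lib.Helper28.OMax2 Cfsg.Agent.Lib.Helper28.OIwa2

variable {n : ℕ} {F : Type*} [Field F] {Q : (Fin n → F) → F}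
  {f : (Fin n → F) → (Fin n → F) → F}

/-- one step: if `z, w₁ ∈ XSQ M` are non-orthogonal, every singular `v` non-orthogonal to `w₁`
is in `XSQ M`. -/
theorem opp_step (hq : QF Q f) (vf : VFacts Q f)
    {G : Subgroup (Matrix.GeneralLinearGroup (Fin n) F)} (hG : SgGroupQ Q f G)
    {M : Subgroup (Matrix.GeneralLinearGroup (Fin n) F)} (hMG : M ≤ G)
    {z w₁ : Fin n → F} (hzX : z ∈ XSQ Q f M) (hwX : w₁ ∈ XSQ Q f M) (hzw₁ : f z w₁ ≠ 0)
    (v : Fin n → F) (hvv : Q v = 0) (hvw : f v w₁ ≠ 0) : v ∈ XSQ Q f M := by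
  have hf := hq.sym
  have hMQ : ∀ m ∈ M, ∀ x, Q ((m : Matrix (Fin n) (Fin n) F) *ᵥ x) = Q x :=
    fun m hm => hG.iso m (hMG hm)
  have hw₁0 : w₁ ≠ 0 := by
    rintro rfl
    exact hzw₁ (f_zero_right hf z)
  have hw₁w₁ := hwX.1
  have hfw₁ := f_sing hq hw₁w₁
  obtain ⟨κ, hκ⟩ : ∃ κ, κ = f z w₁ := ⟨_, rfl⟩
  have hκ0 : κ ≠ 0 := by
    rw [hκ]
    exact hzw₁
  have hzz := hzX.1
  have hstepC : ∀ v : Fin n → F, Q v = 0 → f v w₁ = κ → v ∈ XSQ Q f M := by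
    intro v hvv hvw
    obtain ⟨y, hy⟩ : ∃ y, y = κ⁻¹ • (v - z) := ⟨_, rfl⟩
    have hyw : f y w₁ = 0 := by
      rw [hy, hf.smul_left, f_sub_left hf, hvw, ← hκ, sub_self, mul_zero]
    obtain ⟨y₁, y₂, hsum, h11, h22, h1w, h2w⟩ := vf.decomp w₁ y hw₁w₁ hw₁0 hyw
    have hw1 : f w₁ y₁ = 0 := by rw [s_symm hf, h1w]
    have hw2 : f w₁ y₂ = 0 := by rw [s_symm hf, h2w]
    obtain ⟨t₁, ht₁⟩ := hG.ex w₁ y₁ 1 hw₁w₁ h11 hw1
    obtain ⟨t₂, ht₂⟩ := hG.ex w₁ y₂ 1 hw₁w₁ h22 hw2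
    have ht₁M : t₁ ∈ M := hwX.2 y₁ 1 t₁ h11 hw1 ht₁
    have ht₂M : t₂ ∈ M := hwX.2 y₂ 1 t₂ h22 hw2 ht₂
    have hρM : t₂ * t₁ ∈ M := M.mul_mem ht₂M ht₁M
    have h1 := XSQ_conj hq M hρM (hMQ _ hρM) hzX
    have h12 : f y₁ y₂ = Q y := by
      rw [← hsum, hq.polar, h11, h22]
      ring
    have hyy : Q y = -(κ⁻¹ * κ⁻¹ * f v z) := by
      rw [hy, hq.smul, Q_sub hq, hvv, hzz]
      ring
    have hyz : f y z = κ⁻¹ * f v z := by
      rw [hy, hf.smul_left, f_sub_left hf, f_sing hq hzz]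
      ring
    have e : ((t₂ * t₁ : Matrix.GeneralLinearGroup (Fin n) F) :
        Matrix (Fin n) (Fin n) F) *ᵥ z = v := by
      rw [Cfsg.Agent.S5643.mul_mv, ht₁ z, ht₂, rho_formula hf w₁ y₁ y₂ hfw₁ h1w h2w, hsum,
        s_symm hf w₁ z, ← hκ, hyz]
      have e1 : κ • y = v - z := by
        rw [hy, smul_smul, mul_inv_cancel₀ hκ0, one_smul]
      have e2 : f y₁ y₂ * κ = -(κ⁻¹ * f v z) := by
        rw [h12, hyy]
        field_simp
      rw [e1, e2]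
      module
    rw [e] at h1
    exact h1
  have h1 := hstepC ((κ / f v w₁) • v)
    (by rw [hq.smul, hvv, mul_zero])
    (by rw [hf.smul_left]; field_simp)
  have h3 := XSQ_smul hq M (f v w₁ / κ) (div_ne_zero hvw hκ0) h1
  rw [smul_smul] at h3
  have e : f v w₁ / κ * (κ / f v w₁) = 1 := by field_simp
  rw [e, one_smul] at h3
  exact h3

/-- **Opposite radicals generate**: if `z, w₁ ∈ XSQ M` with `f z w₁ ≠ 0` then `G ≤ M`. -/
theorem oppGen (hq : QF Q f) (vf : VFacts Q f)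
    {G : Subgroup (Matrix.GeneralLinearGroup (Fin n) F)} (hG : SgGroupQ Q f G)
    {M : Subgroup (Matrix.GeneralLinearGroup (Fin n) F)} (hMG : M ≤ G)
    {z w₁ : Fin n → F} (hzX : z ∈ XSQ Q f M) (hwX : w₁ ∈ XSQ Q f M) (hzw₁ : f z w₁ ≠ 0) :
    G ≤ M := by
  have hf := hq.sym
  have hw₁0 : w₁ ≠ 0 := by
    rintro rfl
    exact hzw₁ (f_zero_right hf z)
  have hw₁z : f w₁ z ≠ 0 := by rw [s_symm hf]; exact hzw₁
  have hall : ∀ v : Fin n → F, Q v = 0 → v ∈ XSQ Q f M := by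
    intro v hvv
    by_cases hvw₁ : f v w₁ = 0
    · by_cases hs : v ∈ Submodule.span F {w₁}
      · obtain ⟨a, rfl⟩ := Submodule.mem_span_singleton.1 hs
        by_cases ha : a = 0
        · subst ha
          rw [zero_smul]
          refine ⟨Q_zero hq, fun v' c t _ _ ht => ?_⟩
          rw [isSg_one_of_zero hf ht]
          exact M.one_mem
        · exact XSQ_smul hq M a ha hwX
      · obtain ⟨z', hz'z', hz'1, hz'2⟩ := far_pair_q hq w₁ v hw₁0 hs hwX.1 (by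
          rw [s_symm hf]; exact hvw₁)
        have hz'X := opp_step hq vf hG hMG hzX hwX hzw₁ z' hz'z' hz'1
        have hw₁z' : f w₁ z' ≠ 0 := by rw [s_symm hf]; exact hz'1
        have hvz' : f v z' ≠ 0 := by rw [s_symm hf]; exact hz'2
        exact opp_step hq vf hG hMG hwX hz'X hw₁z' v hvv hvz'
    · exact opp_step hq vf hG hMG hzX hwX hzw₁ v hvv hvw₁
  apply hG.gen M
  intro t u v c hu hv huv ht
  exact (hall u hu).2 v c t hv huv ht

end Cfsg.Agent.Lib.Helper29.OG
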