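import Cfsg.Agent.Lib.Helper29.OG.Wact
import Cfsg.Agent.Lib.Helper29.OG.Opp

/-!
# Hyperbolic frames with one anisotropic vector (type `B_m`), abstract setting
-/

set_option autoImplicit false

namespace Cfsg.Agent.Lib.Helper29.OG

open Matrix Cfsg.Agent.Lib.Helper28.HForm Cfsg.Agent.Lib.Helper28.OGen
  Cfsg.Agent.Lib.Helper28.OMax Cfsg.Agent.Lib.Helper28.OIwa Cfsg.Agent.Lib.Helper28.OQ
  Cfsg.Agent.Lib.Helper28.OMax2 Cfsg.Agent.Lib.Helper28.OIwa2

variable {n : ℕ} {F : Type*} [Field F] {Q : (Fin n → F) → F}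
  {f : (Fin n → F) → (Fin n → F) → F}

/-- the partner index. -/
def pr (m a : ℕ) : ℕ := if a < m then a + m else a - m

theorem pr_lt {m a : ℕ} (ha : a < 2 * m) : pr m a < 2 * m := by
  unfold pr; split_ifs <;> omega

theorem pr_pr {m a : ℕ} (ha : a < 2 * m) : pr m (pr m a) = a := by
  unfold pr; split_ifs <;> omega

theorem pr_of_lt {m a : ℕ} (ha : a < m) : pr m a = a + m := by
  unfold pr; rw [if_pos ha]

theorem pr_add {m a : ℕ} : pr m (a + m) = a := by
  unfold pr; rw [if_neg (by omega)]; omega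

/-- a frame of type `B_m`: `c a` (`a < 2m`) singular, `c a` paired with `c (a+m)`, and `d` with
`Q d = 1` orthogonal to all `c a`, together spanning the space. -/
structure Frame (Q : (Fin n → F) → F) (f : (Fin n → F) → (Fin n → F) → F) (m : ℕ)
    (c : ℕ → Fin n → F) (d : Fin n → F) : Prop where
  qc : ∀ a, a < 2 * m → Q (c a) = 0
  pair : ∀ a, a < m → f (c a) (c (a + m)) = 1
  orth : ∀ a b, a < 2 * m → b < 2 * m → b ≠ a + m → a ≠ b + m → f (c a) (c b) = 0
  qd : Q d = 1
  cd : ∀ a, a < 2 * m → f (c a) d = 0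
  span : ∀ x, x = ∑ a ∈ Finset.range (2 * m), f x (c (pr m a)) • c a + (f x d * 2⁻¹) • d

variable {m : ℕ} {c : ℕ → Fin n → F} {d : Fin n → F}

theorem Frame.pair' (hq : QF Q f) (fr : Frame Q f m c d) {a : ℕ} (ha : a < m) :
    f (c (a + m)) (c a) = 1 := by
  rw [s_symm hq.sym, fr.pair a ha]

theorem Frame.dc (hq : QF Q f) (fr : Frame Q f m c d) {a : ℕ} (ha : a < 2 * m) :
    f d (c a) = 0 := by
  rw [s_symm hq.sym, fr.cd a ha]

/-- a linear map is determined by its values on the frame. -/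
theorem Frame.lin_apply (fr : Frame Q f m c d) (L : (Fin n → F) →ₗ[F] (Fin n → F))
    (x : Fin n → F) :
    L x = ∑ a ∈ Finset.range (2 * m), f x (c (pr m a)) • L (c a) + (f x d * 2⁻¹) • L d := by
  conv_lhs => rw [fr.span x]
  rw [map_add, map_sum, map_smul]
  congr 1
  apply Finset.sum_congr rfl
  intro a _
  rw [map_smul]

/-- two elements of `GL` agreeing on the frame are equal. -/
theorem Frame.ext_gl (fr : Frame Q f m c d) (g g' : Matrix.GeneralLinearGroup (Fin n) F)
    (hc : ∀ a, a < 2 * m → (g : Matrix (Fin n) (Fin n) F) *ᵥ c a =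
      (g' : Matrix (Fin n) (Fin n) F) *ᵥ c a)
    (hd : (g : Matrix (Fin n) (Fin n) F) *ᵥ d = (g' : Matrix (Fin n) (Fin n) F) *ᵥ d) :
    g = g' := by
  apply gl_ext
  intro x
  have h1 := fr.lin_apply (Matrix.mulVecLin (g : Matrix (Fin n) (Fin n) F)) x
  have h2 := fr.lin_apply (Matrix.mulVecLin (g' : Matrix (Fin n) (Fin n) F)) x
  simp only [Matrix.mulVecLin_apply] at h1 h2
  rw [h1, h2, hd]
  congr 1
  apply Finset.sum_congr rfl
  intro a ha
  rw [hc a (Finset.mem_range.1 ha)]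

/-- powers of an element acting by a scalar on a vector. -/
theorem pow_mulVec_eig (g : Matrix.GeneralLinearGroup (Fin n) F) {v : Fin n → F} {μ : F}
    (h : (g : Matrix (Fin n) (Fin n) F) *ᵥ v = μ • v) (k : ℕ) :
    ((g ^ k : Matrix.GeneralLinearGroup (Fin n) F) : Matrix (Fin n) (Fin n) F) *ᵥ v =
      μ ^ k • v := by
  induction k with
  | zero => rw [pow_zero, pow_zero, Units.val_one, Matrix.one_mulVec, one_smul]
  | succ k ih =>
    rw [pow_succ, Cfsg.Agent.S5643.mul_mv, h, Matrix.mulVec_smul, ih, smul_smul, pow_succ,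
      mul_comm]

end Cfsg.Agent.Lib.Helper29.OG
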