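import Cfsg.Agent.Lib.Helper29.OG.Frame

/-!
# Building a `B_m` frame from `Fin`-indexed hyperbolic pairs and a perp-zero condition
-/

set_option autoImplicit false

namespace Cfsg.Agent.Lib.Helper29.OG

open Matrix Cfsg.Agent.Lib.Helper28.HForm Cfsg.Agent.Lib.Helper28.OGen
  Cfsg.Agent.Lib.Helper28.OMax Cfsg.Agent.Lib.Helper28.OIwa Cfsg.Agent.Lib.Helper28.OQ
  Cfsg.Agent.Lib.Helper28.OMax2 Cfsg.Agent.Lib.Helper28.OIwa2

variable {n : ℕ} {F : Type*} [Field F] {Q : (Fin n → F) → F}
  {f : (Fin n → F) → (Fin n → F) → F}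

theorem f_sum_left (hf : SymF f) (s : Finset ℕ) (g : ℕ → Fin n → F) (y : Fin n → F) :
    f (∑ a ∈ s, g a) y = ∑ a ∈ s, f (g a) y := by
  classical
  induction s using Finset.induction_on with
  | empty => rw [Finset.sum_empty, Finset.sum_empty, f_zero_left hf]
  | insert a s has ih => rw [Finset.sum_insert has, Finset.sum_insert has, hf.add_left, ih]

variable {m : ℕ} {c : ℕ → Fin n → F} {d : Fin n → F}

/-- a frame from orthogonality relations and the perp-zero condition. -/
theorem Frame.of_perp (hq : QF Q f) (h2 : (2 : F) ≠ 0)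
    (qc : ∀ a, a < 2 * m → Q (c a) = 0)
    (pair : ∀ a, a < m → f (c a) (c (a + m)) = 1)
    (orth : ∀ a b, a < 2 * m → b < 2 * m → b ≠ a + m → a ≠ b + m → f (c a) (c b) = 0)
    (qd : Q d = 1)
    (cd : ∀ a, a < 2 * m → f (c a) d = 0)
    (perp : ∀ x, (∀ a, a < 2 * m → f x (c a) = 0) → f x d = 0 → x = 0) :
    Frame Q f m c d := by
  have hf := hq.sym
  refine ⟨qc, pair, orth, qd, cd, ?_⟩
  intro x
  have hpp : ∀ b, b < 2 * m → f (c (pr m b)) (c b) = 1 := by
    intro b hb
    by_cases hbm : b < m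
    · rw [pr_of_lt hbm, s_symm hf]
      exact pair b hbm
    · obtain ⟨b', hb', rfl⟩ : ∃ b', b' < m ∧ b = b' + m := ⟨b - m, by omega, by omega⟩
      rw [pr_add]
      exact pair b' hb'
  have hy : x - (∑ a ∈ Finset.range (2 * m), f x (c (pr m a)) • c a + (f x d * 2⁻¹) • d) = 0 := by
    apply perp
    · intro b hb
      rw [f_sub_left hf, hf.add_left, f_sum_left hf, hf.smul_left, s_symm hf d, cd b hb, mul_zero,
        add_zero]
      rw [Finset.sum_eq_single (pr m b)]
      · rw [hf.smul_left, hpp b hb, pr_pr hb, mul_one, sub_self]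
      · intro a ha hab
        rw [hf.smul_left, orth a b (Finset.mem_range.1 ha) hb, mul_zero]
        · unfold pr at hab
          split_ifs at hab <;> omega
        · have := Finset.mem_range.1 ha
          unfold pr at hab
          split_ifs at hab <;> omega
      · intro h
        exact absurd (Finset.mem_range.2 (pr_lt hb)) h
    · rw [f_sub_left hf, hf.add_left, f_sum_left hf, hf.smul_left, f_self hq, qd]
      rw [Finset.sum_eq_zero]
      · field_simp
        ring
      · intro a ha
        rw [hf.smul_left, cd a (Finset.mem_range.1 ha), mul_zero]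
  exact sub_eq_zero.1 hy

/-- the `ℕ`-indexed family built from two `Fin m`-indexed ones. -/
def cOf (m : ℕ) (u v : Fin m → Fin n → F) (a : ℕ) : Fin n → F :=
  if h : a < m then u ⟨a, h⟩ else if h' : a - m < m then v ⟨a - m, h'⟩ else 0

theorem cOf_lt {u v : Fin m → Fin n → F} {a : ℕ} (h : a < m) : cOf m u v a = u ⟨a, h⟩ := by
  unfold cOf
  rw [dif_pos h]

theorem cOf_add {u v : Fin m → Fin n → F} {a : ℕ} (h : a < m) : cOf m u v (a + m) = v ⟨a, h⟩ := by
  unfold cOf
  rw [dif_neg (by omega), dif_pos (by omega)]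
  congr 1
  apply Fin.ext
  show a + m - m = a
  omega

/-- a frame from `Fin`-indexed hyperbolic pairs. -/
theorem Frame.of_fin (hq : QF Q f) (h2 : (2 : F) ≠ 0) (u v : Fin m → Fin n → F)
    (qu : ∀ i, Q (u i) = 0) (qv : ∀ i, Q (v i) = 0)
    (uv : ∀ i j, f (u i) (v j) = if i = j then 1 else 0)
    (uu : ∀ i j, f (u i) (u j) = 0) (vv : ∀ i j, f (v i) (v j) = 0)
    (qd : Q d = 1) (ud : ∀ i, f (u i) d = 0) (vd : ∀ i, f (v i) d = 0)
    (perp : ∀ x, (∀ i, f x (u i) = 0) → (∀ i, f x (v i) = 0) → f x d = 0 → x = 0) :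
    Frame Q f m (cOf m u v) d := by
  have hf := hq.sym
  have hcase : ∀ a, a < 2 * m → a < m ∨ ∃ a', ∃ _ : a' < m, a = a' + m := by
    intro a ha
    by_cases h : a < m
    · exact Or.inl h
    · exact Or.inr ⟨a - m, by omega, by omega⟩
  apply Frame.of_perp hq h2
  · intro a ha
    rcases hcase a ha with h | ⟨a', h, rfl⟩
    · rw [cOf_lt h]; exact qu _
    · rw [cOf_add h]; exact qv _
  · intro a ha
    rw [cOf_lt ha, cOf_add ha, uv, if_pos rfl]
  · intro a b ha hb hab hba
    rcases hcase a ha with h | ⟨a', h, rfl⟩ <;> rcases hcase b hb with h' | ⟨b', h', rfl⟩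
    · rw [cOf_lt h, cOf_lt h']; exact uu _ _
    · rw [cOf_lt h, cOf_add h', uv, if_neg]
      intro hh
      have := congrArg Fin.val hh
      simp only at this
      omega
    · rw [cOf_add h, cOf_lt h', s_symm hf, uv, if_neg]
      intro hh
      have := congrArg Fin.val hh
      simp only at this
      omega
    · rw [cOf_add h, cOf_add h']; exact vv _ _
  · exact qd
  · intro a ha
    rcases hcase a ha with h | ⟨a', h, rfl⟩
    · rw [cOf_lt h]; exact ud _
    · rw [cOf_add h]; exact vd _
  · intro x hx hxd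
    apply perp x _ _ hxd
    · intro i
      have := hx i (by omega)
      rw [cOf_lt i.2] at this
      exact this
    · intro i
      have := hx (i + m) (by omega)
      rw [cOf_add i.2] at this
      exact this

end Cfsg.Agent.Lib.Helper29.OG
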