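import Cfsg.Agent.Lib.Helper29.OG.OddCore
import Cfsg.Agent.Lib.Helper29.OG.FrameFin
import Cfsg.Agent.Lib.Helper28.OGenQ
import Cfsg.Agent.Lib.Helper16.OA25

/-!
# `Ω_{2m+1}(q)`, `q` odd, `m ≥ 3`, is generated by two elements
-/

set_option autoImplicit false

namespace Cfsg.Agent.Lib.Helper29.OG

open Matrix Cfsg.Agent.Lib.Lead Cfsg.Agent.Lib.Helper28.HForm Cfsg.Agent.Lib.Helper28.OGen
  Cfsg.Agent.Lib.Helper28.OMax Cfsg.Agent.Lib.Helper28.OIwa Cfsg.Agent.Lib.Helper28.OQ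
  Cfsg.Agent.Lib.Helper28.OMax2 Cfsg.Agent.Lib.Helper28.OIwa2 Cfsg.Agent.Lib.Helper28.OGenQ
  Cfsg.Agent.Lib.Helper28.OTrans Cfsg.Agent.Lib.Helper28.OIwaQ
  Cfsg.Agent.Lib.Helper16 Cfsg.Agent.S0795

variable {F : Type*} [Field F]

section concrete

variable (m : ℕ)

/-- abbreviation for the index type. -/
abbrev OI (m : ℕ) : Type := Unit ⊕ (Fin m ⊕ Fin m)

theorem qodd_single_inl : Cfsg.quadFormOdd m F (Pi.single (Sum.inl ()) 1) = 1 := by
  unfold Cfsg.quadFormOdd
  simp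

theorem qodd_single_inr (k : Fin m ⊕ Fin m) :
    Cfsg.quadFormOdd m F (Pi.single (Sum.inr k) 1) = 0 := by
  unfold Cfsg.quadFormOdd
  rcases k with i | i
  · simp
  · simp

theorem polar_single_inl (w : OI m → F) :
    QuadraticMap.polar (Cfsg.quadFormOdd m F) w (Pi.single (Sum.inl ()) 1) =
      2 * w (Sum.inl ()) := by
  rw [polar_odd]
  simp

theorem polar_single_inrl (w : OI m → F) (j : Fin m) :
    QuadraticMap.polar (Cfsg.quadFormOdd m F) w (Pi.single (Sum.inr (Sum.inl j)) 1) =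
      w (Sum.inr (Sum.inr j)) := by
  rw [polar_odd]
  simp [Pi.single_apply]

theorem polar_single_inrr (w : OI m → F) (j : Fin m) :
    QuadraticMap.polar (Cfsg.quadFormOdd m F) w (Pi.single (Sum.inr (Sum.inr j)) 1) =
      w (Sum.inr (Sum.inl j)) := by
  rw [polar_odd]
  simp [Pi.single_apply]

/-- the concrete `B_m` frame of the (reindexed) form `x₀² + Σ xᵢ yᵢ`. -/
theorem frame_concrete (h2 : (2 : F) ≠ 0) {n : ℕ} (e : OI m ≃ Fin n) :
    ∃ (c : ℕ → Fin n → F) (d : Fin n → F),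
      Frame (⇑(RI.qReindex e (qfOdd m F))) (pf (RI.qReindex e (qfOdd m F))) m c d := by
  have hQ' := RI.qReindex_nondeg e _ (OA.qfOdd_nondeg (F := F) m h2)
  have hq := qf_of_quad (RI.qReindex e (qfOdd m F)) hQ'
  have hL : ∀ w : OI m → F, (w ∘ e.symm) ∘ e = w := by
    intro w
    funext k
    simp
  have hQL : ∀ w : OI m → F, (RI.qReindex e (qfOdd m F)) (w ∘ e.symm) =
      Cfsg.quadFormOdd m F w := by
    intro w
    rw [RI.qReindex_coe]
    show (qfOdd m F) ((w ∘ e.symm) ∘ e) = _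
    rw [hL, qfOdd_coe]
  have hpf : ∀ (x : Fin n → F) (w : OI m → F), pf (RI.qReindex e (qfOdd m F)) x (w ∘ e.symm) =
      QuadraticMap.polar (Cfsg.quadFormOdd m F) (x ∘ e) w := by
    intro x w
    show QuadraticMap.polar (⇑(RI.qReindex e (qfOdd m F))) x (w ∘ e.symm) = _
    rw [RI.qReindex_coe, qfOdd_coe]
    unfold QuadraticMap.polar
    have e1 : (x + w ∘ e.symm) ∘ e = x ∘ e + w := by
      funext k
      simp
    simp only [e1, hL]
  refine ⟨cOf m (fun i => (Pi.single (Sum.inr (Sum.inl i)) (1 : F) : OI m → F) ∘ e.symm)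
    (fun i => (Pi.single (Sum.inr (Sum.inr i)) (1 : F) : OI m → F) ∘ e.symm),
    (Pi.single (Sum.inl ()) (1 : F) : OI m → F) ∘ e.symm, ?_⟩
  apply Frame.of_fin hq h2
  · intro i
    rw [hQL]
    exact qodd_single_inr m _
  · intro i
    rw [hQL]
    exact qodd_single_inr m _
  · intro i j
    rw [hpf, hL, polar_single_inrr]
    by_cases hij : i = j
    · subst hij
      simp
    · rw [if_neg hij]
      simp [Pi.single_apply, Ne.symm hij]
  · intro i j
    rw [hpf, hL, polar_single_inrl]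
    simp
  · intro i j
    rw [hpf, hL, polar_single_inrr]
    simp
  · rw [hQL]
    exact qodd_single_inl m
  · intro i
    rw [hpf, hL, polar_single_inl]
    simp
  · intro i
    rw [hpf, hL, polar_single_inl]
    simp
  · intro x hu hv hd
    have hx : x ∘ e = 0 := by
      funext k
      rcases k with ⟨⟩ | i | i
      · rw [hpf, polar_single_inl] at hd
        rcases mul_eq_zero.1 hd with h | h
        · exact absurd h h2
        · exact h
      · have := hv i
        rw [hpf, polar_single_inrr] at this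
        exact this
      · have := hu i
        rw [hpf, polar_single_inrl] at this
        exact this
    funext j
    have := congrFun hx (e.symm j)
    simpa using this

end concrete

/-- `Ω_{2m+1}(q)` (reindexed to `Fin`) is generated by two elements. -/
theorem omegaGL_reindexed_two_gen [Fintype F] (h2 : (2 : F) ≠ 0) (m : ℕ) (hm : 3 ≤ m) :
    ∃ a ∈ Cfsg.Geo.omegaGL (⇑(RI.qReindex (Fintype.equivFin (OI m)) (qfOdd m F))),
    ∃ b ∈ Cfsg.Geo.omegaGL (⇑(RI.qReindex (Fintype.equivFin (OI m)) (qfOdd m F))),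
      Subgroup.closure ({a, b} : Set (Matrix.GeneralLinearGroup (Fin (Fintype.card (OI m))) F)) =
        Cfsg.Geo.omegaGL (⇑(RI.qReindex (Fintype.equivFin (OI m)) (qfOdd m F))) := by
  have hn : 7 ≤ Fintype.card (OI m) := by
    simp only [Fintype.card_sum, Fintype.card_unit, Fintype.card_fin]
    omega
  have hQ' := RI.qReindex_nondeg (Fintype.equivFin (OI m)) _ (OA.qfOdd_nondeg (F := F) m h2)
  obtain ⟨c, d, fr⟩ := frame_concrete (F := F) m h2 (Fintype.equivFin (OI m))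
  exact two_gen_core (qf_of_quad _ hQ') (vfacts_quad hn _ hQ') (sgGroupQ_quad hn _ hQ') h2 hm fr

/-- two-generation passes to the subgroup type. -/
theorem twoGen_subtype {K : Type*} [Group K] (S : Subgroup K)
    (h : ∃ a ∈ S, ∃ b ∈ S, Subgroup.closure ({a, b} : Set K) = S) :
    ∃ a b : ↥S, Subgroup.closure ({a, b} : Set ↥S) = ⊤ := by
  obtain ⟨a, ha, b, hb, hab⟩ := h
  refine ⟨⟨a, ha⟩, ⟨b, hb⟩, ?_⟩
  apply Subgroup.map_injective S.subtype_injective
  rw [MonoidHom.map_closure, ← MonoidHom.range_eq_map, Subgroup.range_subtype, Set.image_pair]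
  exact hab

/-- two-generation passes along surjective homomorphisms. -/
theorem twoGen_of_surjective {A B : Type*} [Group A] [Group B] (φ : A →* B)
    (hφ : Function.Surjective φ)
    (h : ∃ a b : A, Subgroup.closure ({a, b} : Set A) = ⊤) :
    ∃ a b : B, Subgroup.closure ({a, b} : Set B) = ⊤ := by
  obtain ⟨a, b, hab⟩ := h
  refine ⟨φ a, φ b, ?_⟩
  have h1 := MonoidHom.map_closure φ {a, b}
  rw [hab, Subgroup.map_top_of_surjective _ hφ, Set.image_pair] at h1
  exact h1.symm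

/-- `PΩ_{2m+1}(q)`, `q` odd, `m ≥ 3`, is generated by two elements. -/
theorem pomega_odd_two_gen [Fintype F] (h2 : (2 : F) ≠ 0) (m : ℕ) (hm : 3 ≤ m) :
    ∃ a b : Cfsg.POmega F (Cfsg.quadFormOdd m F),
      Subgroup.closure ({a, b} : Set (Cfsg.POmega F (Cfsg.quadFormOdd m F))) = ⊤ := by
  obtain ⟨e, he⟩ : ∃ e : OI m ≃ Fin (Fintype.card (OI m)), e = Fintype.equivFin (OI m) :=
    ⟨_, rfl⟩
  have h1 := twoGen_subtype _ (omegaGL_reindexed_two_gen (F := F) h2 m hm)
  rw [← he] at h1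
  let φ₁ : ↥(Cfsg.Omega F (⇑(qfOdd m F))) ≃* ↥(Cfsg.Geo.omegaGL (⇑(qfOdd m F))) :=
    Subgroup.equivMapOfInjective (Cfsg.Omega F (⇑(qfOdd m F)))
      (Cfsg.isometryGroup F (⇑(qfOdd m F))).subtype (Subgroup.subtype_injective _)
  let φ₂ : ↥(Cfsg.Geo.omegaGL (⇑(qfOdd m F))) ≃*
      ↥((Cfsg.Geo.omegaGL (⇑(qfOdd m F))).map (RI.glReindex (F := F) e).toMonoidHom) :=
    (RI.glReindex (F := F) e).subgroupMap (Cfsg.Geo.omegaGL (⇑(qfOdd m F)))
  let φ₃ : ↥((Cfsg.Geo.omegaGL (⇑(qfOdd m F))).map (RI.glReindex (F := F) e).toMonoidHom) ≃*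
      ↥(Cfsg.Geo.omegaGL (⇑(RI.qReindex e (qfOdd m F)))) :=
    MulEquiv.subgroupCongr (map_omegaGL e (⇑(qfOdd m F)))
  have h3 := twoGen_of_surjective ((φ₁.trans φ₂).trans φ₃).symm.toMonoidHom
    ((φ₁.trans φ₂).trans φ₃).symm.surjective h1
  exact twoGen_of_surjective (QuotientGroup.mk' _) (QuotientGroup.mk'_surjective _) h3

end Cfsg.Agent.Lib.Helper29.OG
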