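import Cfsg.Agent.Lib.Helper29.OG.DesignEO
import Cfsg.Agent.Lib.Helper29.OG.OddBridge
import Cfsg.Agent.Lib.Helper16.OHelp

/-!
# `Ω⁻_{2k+2}(q)`, `k ≥ 3`, is generated by two elements
-/

set_option autoImplicit false

namespace Cfsg.Agent.Lib.Helper29.OG

open Matrix Cfsg.Agent.Lib.Lead Cfsg.Agent.Lib.Helper28.HForm Cfsg.Agent.Lib.Helper28.OGen
  Cfsg.Agent.Lib.Helper28.OMax Cfsg.Agent.Lib.Helper28.OIwa Cfsg.Agent.Lib.Helper28.OQ
  Cfsg.Agent.Lib.Helper28.OMax2 Cfsg.Agent.Lib.Helper28.OIwa2 Cfsg.Agent.Lib.Helper28.OGenQ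
  Cfsg.Agent.Lib.Helper28.OTrans Cfsg.Agent.Lib.Helper28.OIwaQ
  Cfsg.Agent.Lib.Helper16 Cfsg.Agent.S0795

variable {F : Type*} [Field F]

section abstract

variable {n : ℕ} {Q : (Fin n → F) → F} {f : (Fin n → F) → (Fin n → F) → F} {m : ℕ}

/-- a hyperbolic frame from `Fin`-indexed hyperbolic pairs. -/
theorem PFrame.of_fin (hq : QF Q f) (u v : Fin m → Fin n → F)
    (qu : ∀ i, Q (u i) = 0) (qv : ∀ i, Q (v i) = 0)
    (uv : ∀ i j, f (u i) (v j) = if i = j then 1 else 0)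
    (uu : ∀ i j, f (u i) (u j) = 0) (vv : ∀ i j, f (v i) (v j) = 0) :
    PFrame Q f m (cOf m u v) := by
  have hf := hq.sym
  have hcase : ∀ a, a < 2 * m → a < m ∨ ∃ a', ∃ _ : a' < m, a = a' + m := by
    intro a ha
    by_cases h : a < m
    · exact Or.inl h
    · exact Or.inr ⟨a - m, by omega, by omega⟩
  refine ⟨?_, ?_, ?_⟩
  · intro a ha
    rcases hcase a ha with h | ⟨a', h, rfl⟩
    · rw [cOf_lt h]; exact qu _
    · rw [cOf_add h]; exact qv _
  · intro a ha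
    rw [cOf_lt ha, cOf_add ha, uv, if_pos rfl]
  · intro a b ha hb hab hba
    rcases hcase a ha with h | ⟨a', h, rfl⟩ <;> rcases hcase b hb with h' | ⟨b', h', rfl⟩
    · rw [cOf_lt h, cOf_lt h']; exact uu _ _
    · rw [cOf_lt h, cOf_add h', uv, if_neg]
      intro hh
      have := congrArg Fin.val hh
      simp only at this
      omega
    · rw [cOf_add h, cOf_lt h', s_symm hf, uv, if_neg]
      intro hh
      have := congrArg Fin.val hh
      simp only at this
      omega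
    · rw [cOf_add h, cOf_add h']; exact vv _ _

/-- membership in `Wp` of a `cOf`-frame. -/
theorem mem_Wp_cOf {u v : Fin m → Fin n → F} {w : Fin n → F} :
    w ∈ Wp f m (cOf m u v) ↔ (∀ i, f (u i) w = 0) ∧ ∀ i, f (v i) w = 0 := by
  constructor
  · intro hw
    refine ⟨fun i => ?_, fun i => ?_⟩
    · have := hw i (by omega)
      rw [cOf_lt i.2] at this
      exact this
    · have := hw (i + m) (by omega)
      rw [cOf_add i.2] at this
      exact this
  · rintro ⟨h1, h2⟩ a ha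
    by_cases h : a < m
    · rw [cOf_lt h]; exact h1 _
    · obtain ⟨a', h', rfl⟩ : ∃ a', a' < m ∧ a = a' + m := ⟨a - m, by omega, by omega⟩
      rw [cOf_add h']; exact h2 _

end abstract

/-- transfer of two-generation from the reindexed `Ω` to `PΩ`. -/
theorem pomega_two_gen_of_reindexed {ι : Type} [Fintype ι] [DecidableEq ι]
    (Q : QuadraticForm F (ι → F))
    (h : ∃ a ∈ Cfsg.Geo.omegaGL (⇑(RI.qReindex (Fintype.equivFin ι) Q)),
      ∃ b ∈ Cfsg.Geo.omegaGL (⇑(RI.qReindex (Fintype.equivFin ι) Q)),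
      Subgroup.closure ({a, b} : Set (Matrix.GeneralLinearGroup (Fin (Fintype.card ι)) F)) =
        Cfsg.Geo.omegaGL (⇑(RI.qReindex (Fintype.equivFin ι) Q))) :
    ∃ a b : Cfsg.POmega F (⇑Q),
      Subgroup.closure ({a, b} : Set (Cfsg.POmega F (⇑Q))) = ⊤ := by
  obtain ⟨e, he⟩ : ∃ e : ι ≃ Fin (Fintype.card ι), e = Fintype.equivFin ι := ⟨_, rfl⟩
  have h1 := twoGen_subtype _ h
  rw [← he] at h1
  let φ₁ : ↥(Cfsg.Omega F (⇑Q)) ≃* ↥(Cfsg.Geo.omegaGL (⇑Q)) :=
    Subgroup.equivMapOfInjective (Cfsg.Omega F (⇑Q))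
      (Cfsg.isometryGroup F (⇑Q)).subtype (Subgroup.subtype_injective _)
  let φ₂ : ↥(Cfsg.Geo.omegaGL (⇑Q)) ≃*
      ↥((Cfsg.Geo.omegaGL (⇑Q)).map (RI.glReindex (F := F) e).toMonoidHom) :=
    (RI.glReindex (F := F) e).subgroupMap (Cfsg.Geo.omegaGL (⇑Q))
  let φ₃ : ↥((Cfsg.Geo.omegaGL (⇑Q)).map (RI.glReindex (F := F) e).toMonoidHom) ≃*
      ↥(Cfsg.Geo.omegaGL (⇑(RI.qReindex e Q))) :=
    MulEquiv.subgroupCongr (map_omegaGL e (⇑Q))
  have h3 := twoGen_of_surjective ((φ₁.trans φ₂).trans φ₃).symm.toMonoidHom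
    ((φ₁.trans φ₂).trans φ₃).symm.surjective h1
  exact twoGen_of_surjective (QuotientGroup.mk' _) (QuotientGroup.mk'_surjective _) h3

section concrete

variable (k : ℕ) (a b : F)

/-- abbreviation for the index type. -/
abbrev MIdx (k : ℕ) : Type := (Fin k ⊕ Fin k) ⊕ Fin 2

theorem qminus_single_inl (j : Fin k ⊕ Fin k) :
    Cfsg.quadFormMinus k F a b (Pi.single (Sum.inl j) 1) = 0 := by
  unfold Cfsg.quadFormMinus
  rcases j with i | i
  · simp
  · simp

theorem qminus_single_inr0 :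
    Cfsg.quadFormMinus k F a b (Pi.single (Sum.inr 0) 1) = 1 := by
  unfold Cfsg.quadFormMinus
  simp

theorem qminus_d2 (s : F) :
    Cfsg.quadFormMinus k F a b (Pi.single (Sum.inr 1) 1 + s • Pi.single (Sum.inr 0) 1) =
      s ^ 2 + a * s * 1 + b * 1 ^ 2 := by
  unfold Cfsg.quadFormMinus
  simp

theorem pminus_inr0 (w : MIdx k → F) :
    QuadraticMap.polar (Cfsg.quadFormMinus k F a b) w (Pi.single (Sum.inr 0) 1) =
      2 * w (Sum.inr 0) + a * w (Sum.inr 1) := by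
  rw [polar_minus']
  simp

theorem pminus_d2 (w : MIdx k → F) (s : F) :
    QuadraticMap.polar (Cfsg.quadFormMinus k F a b) w
      (Pi.single (Sum.inr 1) 1 + s • Pi.single (Sum.inr 0) 1) =
      (2 * s + a) * w (Sum.inr 0) + (a * s + 2 * b) * w (Sum.inr 1) := by
  rw [polar_minus']
  simp
  ring

theorem pminus_inll (w : MIdx k → F) (j : Fin k) :
    QuadraticMap.polar (Cfsg.quadFormMinus k F a b) w (Pi.single (Sum.inl (Sum.inl j)) 1) =
      w (Sum.inl (Sum.inr j)) := by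
  rw [polar_minus']
  simp [Pi.single_apply]

theorem pminus_inlr (w : MIdx k → F) (j : Fin k) :
    QuadraticMap.polar (Cfsg.quadFormMinus k F a b) w (Pi.single (Sum.inl (Sum.inr j)) 1) =
      w (Sum.inl (Sum.inl j)) := by
  rw [polar_minus']
  simp [Pi.single_apply]

end concrete

/-- `Ω⁻_{2k+2}(q)` (reindexed to `Fin`) is generated by two elements. -/
theorem omegaGL_minus_two_gen [Fintype F] (k : ℕ) (hk : 3 ≤ k) (a b : F)
    (hab : ∀ z₁ z₂ : F, z₁ ^ 2 + a * z₁ * z₂ + b * z₂ ^ 2 = 0 → z₁ = 0 ∧ z₂ = 0) :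
    ∃ x ∈ Cfsg.Geo.omegaGL (⇑(RI.qReindex (Fintype.equivFin (MIdx k)) (qfMinus k F a b))),
    ∃ y ∈ Cfsg.Geo.omegaGL (⇑(RI.qReindex (Fintype.equivFin (MIdx k)) (qfMinus k F a b))),
      Subgroup.closure ({x, y} :
        Set (Matrix.GeneralLinearGroup (Fin (Fintype.card (MIdx k))) F)) =
        Cfsg.Geo.omegaGL (⇑(RI.qReindex (Fintype.equivFin (MIdx k)) (qfMinus k F a b))) := by
  have hn : 7 ≤ Fintype.card (MIdx k) := by
    simp only [Fintype.card_sum, Fintype.card_fin]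
    omega
  generalize Fintype.equivFin (MIdx k) = e
  generalize Fintype.card (MIdx k) = n at e hn
  have hQ₀ := OSemi.qfMinus_nondeg (F := F) k a b hab
  have hQ' := RI.qReindex_nondeg e _ hQ₀
  have hq := qf_of_quad (RI.qReindex e (qfMinus k F a b)) hQ'
  have vf := vfacts_quad hn (RI.qReindex e (qfMinus k F a b)) hQ'
  have hG := sgGroupQ_quad hn (RI.qReindex e (qfMinus k F a b)) hQ'
  have hf := hq.sym
  have hdisc := disc_ne_zero_of_aniso a b hab
  have hL : ∀ w : MIdx k → F, (w ∘ e.symm) ∘ e = w := by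
    intro w
    funext i
    simp
  have hQL : ∀ w : MIdx k → F, (RI.qReindex e (qfMinus k F a b)) (w ∘ e.symm) =
      Cfsg.quadFormMinus k F a b w := by
    intro w
    rw [RI.qReindex_coe]
    show (qfMinus k F a b) ((w ∘ e.symm) ∘ e) = _
    rw [hL, qfMinus_coe]
  have hpf : ∀ (x : Fin n → F) (w : MIdx k → F),
      pf (RI.qReindex e (qfMinus k F a b)) x (w ∘ e.symm) =
      QuadraticMap.polar (Cfsg.quadFormMinus k F a b) (x ∘ e) w := by
    intro x w
    show QuadraticMap.polar (⇑(RI.qReindex e (qfMinus k F a b))) x (w ∘ e.symm) = _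
    rw [RI.qReindex_coe, qfMinus_coe]
    unfold QuadraticMap.polar
    have e1 : (x + w ∘ e.symm) ∘ e = x ∘ e + w := by
      funext i
      simp
    simp only [e1, hL]
  have hpf' : ∀ (x : Fin n → F) (w : MIdx k → F),
      pf (RI.qReindex e (qfMinus k F a b)) (w ∘ e.symm) x =
      QuadraticMap.polar (Cfsg.quadFormMinus k F a b) (x ∘ e) w := by
    intro x w
    rw [s_symm hf, hpf]
  obtain ⟨s₀, hs₀⟩ : ∃ s₀ : F, 2 * s₀ + a ≠ 0 := by
    by_cases ha : a = 0
    · refine ⟨1, ?_⟩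
      rw [ha, add_zero, mul_one]
      intro h2
      apply hdisc
      rw [ha]
      have : (4 : F) = 2 * 2 := by norm_num
      rw [this, h2]
      ring
    · exact ⟨0, by rw [mul_zero, zero_add]; exact ha⟩
  obtain ⟨u, hu⟩ : ∃ u : Fin k → Fin n → F, ∀ i,
      u i = (Pi.single (Sum.inl (Sum.inl i)) (1 : F) : MIdx k → F) ∘ e.symm := ⟨_, fun _ => rfl⟩
  obtain ⟨v, hv⟩ : ∃ v : Fin k → Fin n → F, ∀ i,
      v i = (Pi.single (Sum.inl (Sum.inr i)) (1 : F) : MIdx k → F) ∘ e.symm := ⟨_, fun _ => rfl⟩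
  obtain ⟨d₁, hd₁e⟩ : ∃ d₁ : Fin n → F,
      d₁ = (Pi.single (Sum.inr 0) (1 : F) : MIdx k → F) ∘ e.symm := ⟨_, rfl⟩
  obtain ⟨d₂, hd₂e⟩ : ∃ d₂ : Fin n → F,
      d₂ = ((Pi.single (Sum.inr 1) (1 : F) + s₀ • Pi.single (Sum.inr 0) (1 : F) : MIdx k → F)) ∘
        e.symm := ⟨_, rfl⟩
  have fr : PFrame (⇑(RI.qReindex e (qfMinus k F a b))) (pf (RI.qReindex e (qfMinus k F a b))) k
      (cOf k u v) := by
    apply PFrame.of_fin hq
    · intro i
      rw [hu, hQL]
      exact qminus_single_inl k a b _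
    · intro i
      rw [hv, hQL]
      exact qminus_single_inl k a b _
    · intro i j
      rw [hu, hv, hpf, hL, pminus_inlr]
      by_cases hij : i = j
      · subst hij
        simp
      · rw [if_neg hij]
        simp [Ne.symm hij]
    · intro i j
      rw [hu, hu, hpf, hL, pminus_inll]
      simp
    · intro i j
      rw [hv, hv, hpf, hL, pminus_inlr]
      simp
  have hd₁ : (RI.qReindex e (qfMinus k F a b)) d₁ = 1 := by
    rw [hd₁e, hQL]
    exact qminus_single_inr0 k a b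
  have hd₁W : d₁ ∈ Wp (pf (RI.qReindex e (qfMinus k F a b))) k (cOf k u v) := by
    rw [mem_Wp_cOf]
    refine ⟨fun i => ?_, fun i => ?_⟩
    · rw [hu, hd₁e, hpf, hL, pminus_inr0]
      simp
    · rw [hv, hd₁e, hpf, hL, pminus_inr0]
      simp
  have hd₂W : d₂ ∈ Wp (pf (RI.qReindex e (qfMinus k F a b))) k (cOf k u v) := by
    rw [mem_Wp_cOf]
    refine ⟨fun i => ?_, fun i => ?_⟩
    · rw [hu, hd₂e, hpf, hL, pminus_d2]
      simp
    · rw [hv, hd₂e, hpf, hL, pminus_d2]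
      simp
  have hal : pf (RI.qReindex e (qfMinus k F a b)) d₁ d₂ ≠ 0 := by
    rw [hd₁e, hd₂e, hpf, hL, pminus_d2]
    simpa using hs₀
  have hspan : ∀ w ∈ Wp (pf (RI.qReindex e (qfMinus k F a b))) k (cOf k u v),
      ∃ s t : F, w = s • d₁ + t • d₂ := by
    intro w hw
    rw [mem_Wp_cOf] at hw
    refine ⟨(w ∘ e) (Sum.inr 0) - s₀ * (w ∘ e) (Sum.inr 1), (w ∘ e) (Sum.inr 1), ?_⟩
    have hw1 : ∀ i, (w ∘ e) (Sum.inl (Sum.inr i)) = 0 := by
      intro i
      have := hw.1 i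
      rw [hu, hpf', pminus_inll] at this
      exact this
    have hw2 : ∀ i, (w ∘ e) (Sum.inl (Sum.inl i)) = 0 := by
      intro i
      have := hw.2 i
      rw [hv, hpf', pminus_inlr] at this
      exact this
    have hwe : w ∘ e = ((w ∘ e) (Sum.inr 0) - s₀ * (w ∘ e) (Sum.inr 1)) •
        (Pi.single (Sum.inr 0) (1 : F) : MIdx k → F) + (w ∘ e) (Sum.inr 1) •
        (Pi.single (Sum.inr 1) (1 : F) + s₀ • Pi.single (Sum.inr 0) (1 : F) : MIdx k → F) := by
      funext i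
      rcases i with (i | i) | i
      · rw [hw2]
        simp
      · rw [hw1]
        simp
      · have ht : i = 0 ∨ i = 1 := by fin_cases i <;> simp
        rcases ht with rfl | rfl
        · simp
          ring
        · simp
    funext j
    have h1 := congrFun hwe (e.symm j)
    rw [hd₁e, hd₂e]
    simp only [Function.comp_apply, Equiv.apply_symm_apply] at h1
    simp only [Pi.add_apply, Pi.smul_apply, Function.comp_apply, smul_eq_mul]
    rw [h1]
    simp only [Pi.add_apply, Pi.smul_apply, smul_eq_mul]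
  by_cases h2 : (2 : F) = 0
  · refine two_gen_EO hq vf hG hk fr hd₁ hd₁W hd₂W hal ?_ ?_ hspan
    · unfold rfl1
      rw [f_sub_right hf, s_smul_right hf, f_self hq, h2, zero_mul, zero_sub, s_symm hf d₂ d₁]
      exact neg_ne_zero.2 (mul_ne_zero hal hal)
    · intro _
      rw [hd₂e, hQL, qminus_d2]
      intro h0
      have := (hab s₀ 1 h0).2
      exact one_ne_zero this
  · exact two_gen_Y hq vf hG h2 hk fr hd₁ hd₁W hd₂W hal hspan

/-- `PΩ⁻_{2k+2}(q)`, `k ≥ 3`, is generated by two elements. -/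
theorem pomega_minus_two_gen [Fintype F] (k : ℕ) (hk : 3 ≤ k) (a b : F)
    (hab : ∀ z₁ z₂ : F, z₁ ^ 2 + a * z₁ * z₂ + b * z₂ ^ 2 = 0 → z₁ = 0 ∧ z₂ = 0) :
    ∃ x y : Cfsg.POmega F (Cfsg.quadFormMinus k F a b),
      Subgroup.closure ({x, y} : Set (Cfsg.POmega F (Cfsg.quadFormMinus k F a b))) = ⊤ :=
  pomega_two_gen_of_reindexed (qfMinus k F a b) (omegaGL_minus_two_gen k hk a b hab)

end Cfsg.Agent.Lib.Helper29.OG
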