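import Cfsg.Agent.Lib.Helper29.OG.Frame

/-!
# From short root groups to the full Siegel radical (abstract `B_m` frame)
-/

set_option autoImplicit false

namespace Cfsg.Agent.Lib.Helper29.OG

open Matrix Cfsg.Agent.Lib.Helper28.HForm Cfsg.Agent.Lib.Helper28.OGen
  Cfsg.Agent.Lib.Helper28.OMax Cfsg.Agent.Lib.Helper28.OIwa Cfsg.Agent.Lib.Helper28.OQ
  Cfsg.Agent.Lib.Helper28.OMax2 Cfsg.Agent.Lib.Helper28.OIwa2

variable {n : ℕ} {F : Type*} [Field F] {Q : (Fin n → F) → F}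
  {f : (Fin n → F) → (Fin n → F) → F}

/-- conjugating a short root element by a monomial isometry. -/
theorem isSv_conj_mono (hq : QF Q f) {t g : Matrix.GeneralLinearGroup (Fin n) F}
    {u u' w : Fin n → F} {ε δ k : F}
    (hg : ∀ x, Q ((g : Matrix (Fin n) (Fin n) F) *ᵥ x) = Q x)
    (hu : (g : Matrix (Fin n) (Fin n) F) *ᵥ u = ε • u')
    (hw : (g : Matrix (Fin n) (Fin n) F) *ᵥ w = δ • w)
    (ht : IsSv Q f t u (k • w)) : IsSv Q f (g * t * g⁻¹) u' ((ε * δ * k) • w) := by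
  have h1 := isSv_conj hq hg ht
  rw [hu, Matrix.mulVec_smul, hw] at h1
  have e : ε • k • δ • w = (ε * δ * k) • w := by
    rw [smul_smul, smul_smul]
    congr 1
    ring
  refine isSv_congr h1 (fun x => ?_)
  rw [Sv_smul_left hq, e]

variable {m : ℕ} {c : ℕ → Fin n → F} {d : Fin n → F}

/-- the full short root group at `c a` lies in `H`. -/
def FS (Q : (Fin n → F) → F) (f : (Fin n → F) → (Fin n → F) → F) (c : ℕ → Fin n → F)
    (d : Fin n → F) (H : Subgroup (Matrix.GeneralLinearGroup (Fin n) F)) (a : ℕ) : Prop :=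
  ∀ (k : F) (t : Matrix.GeneralLinearGroup (Fin n) F), IsSv Q f t (c a) (k • d) → t ∈ H

/-- the full long root group at `(c a, c b)` lies in `H`. -/
def FL (f : (Fin n → F) → (Fin n → F) → F) (c : ℕ → Fin n → F)
    (H : Subgroup (Matrix.GeneralLinearGroup (Fin n) F)) (a b : ℕ) : Prop :=
  ∀ (k : F) (t : Matrix.GeneralLinearGroup (Fin n) F), IsSg f t (c a) (c b) k → t ∈ H

theorem FS_conj (hq : QF Q f) (vf : VFacts Q f)
    {G : Subgroup (Matrix.GeneralLinearGroup (Fin n) F)} (hG : SgGroupQ Q f G)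
    (fr : Frame Q f m c d) {H : Subgroup (Matrix.GeneralLinearGroup (Fin n) F)} (hHG : H ≤ G)
    {g : Matrix.GeneralLinearGroup (Fin n) F} (hgH : g ∈ H) {a b : ℕ} (ha : a < 2 * m)
    {ε δ : F} (hε : ε ≠ 0) (hδ : δ ≠ 0)
    (hga : (g : Matrix (Fin n) (Fin n) F) *ᵥ c a = ε • c b)
    (hgd : (g : Matrix (Fin n) (Fin n) F) *ᵥ d = δ • d) (hFS : FS Q f c d H a) :
    FS Q f c d H b := by
  intro k t ht
  have hca := fr.qc a ha
  have hcad : f (c a) ((ε⁻¹ * δ⁻¹ * k) • d) = 0 := by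
    rw [s_smul_right hq.sym, fr.cd a ha, mul_zero]
  obtain ⟨t₀, _, ht₀⟩ := exists_isSv hq vf hG hca hcad
  have ht₀H := hFS _ t₀ ht₀
  have h1 := isSv_conj_mono hq (hG.iso g (hHG hgH)) hga hgd ht₀
  have e : ε * δ * (ε⁻¹ * δ⁻¹ * k) = k := by field_simp
  rw [e] at h1
  rw [isSv_ext ht h1]
  exact H.mul_mem (H.mul_mem hgH ht₀H) (H.inv_mem hgH)

theorem FL_of_FS (hq : QF Q f) (vf : VFacts Q f) (h2 : (2 : F) ≠ 0)
    {G : Subgroup (Matrix.GeneralLinearGroup (Fin n) F)} (hG : SgGroupQ Q f G)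
    (fr : Frame Q f m c d) {H : Subgroup (Matrix.GeneralLinearGroup (Fin n) F)}
    {a b : ℕ} (ha : a < 2 * m) (hb : b < 2 * m) (hab : b ≠ a + m) (hba : a ≠ b + m)
    (hFSa : FS Q f c d H a) (hFSb : FS Q f c d H b) : FL f c H a b := by
  have hf := hq.sym
  intro k t ht
  have e1 : f (c a) ((k * 2⁻¹) • d) = 0 := by rw [s_smul_right hf, fr.cd a ha, mul_zero]
  have e2 : f (c b) ((1 : F) • d) = 0 := by rw [s_smul_right hf, fr.cd b hb, mul_zero]
  have e3 : f (c a) ((1 : F) • d) = 0 := by rw [s_smul_right hf, fr.cd a ha, mul_zero]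
  have e4 : f (c b) ((k * 2⁻¹) • d) = 0 := by rw [s_smul_right hf, fr.cd b hb, mul_zero]
  obtain ⟨A, hAG, hA⟩ := exists_isSv hq vf hG (fr.qc a ha) e1
  obtain ⟨B, _, hB⟩ := exists_isSv hq vf hG (fr.qc b hb) e2
  have hAH := hFSa _ A hA
  have hBH := hFSb _ B hB
  have h1 := isSv_commutator hq (fr.qc a ha) (fr.qc b hb) (fr.orth a b ha hb hab hba) e1 e3 e4 e2
    (hG.iso A hAG) hA hB
  have e : f ((k * 2⁻¹) • d) ((1 : F) • d) = k := by
    rw [hf.smul_left, s_smul_right hf, f_self hq, fr.qd]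
    field_simp
  rw [e] at h1
  have h3 : t = A * B * A⁻¹ * B⁻¹ := gl_ext _ _ (fun x => by rw [ht x, h1 x])
  rw [h3]
  exact H.mul_mem (H.mul_mem (H.mul_mem hAH hBH) (H.inv_mem hAH)) (H.inv_mem hBH)

/-- the radical lemma: short and long root groups at `c a₀` give the whole Siegel radical. -/
theorem rad (hq : QF Q f) (vf : VFacts Q f)
    {G : Subgroup (Matrix.GeneralLinearGroup (Fin n) F)} (hG : SgGroupQ Q f G)
    (fr : Frame Q f m c d) {H : Subgroup (Matrix.GeneralLinearGroup (Fin n) F)}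
    {a₀ : ℕ} (ha₀ : a₀ < 2 * m) (hFS : FS Q f c d H a₀)
    (hFL : ∀ b, b < 2 * m → b ≠ a₀ + m → a₀ ≠ b + m → FL f c H a₀ b) :
    c a₀ ∈ XSQ Q f H := by
  have hf := hq.sym
  have hq0 := fr.qc a₀ ha₀
  refine ⟨hq0, ?_⟩
  intro v k t hv hcv ht
  have key : ∀ w : Fin n → F, (∃ (s : Finset ℕ) (g : ℕ → F), (∀ a ∈ s, a < 2 * m) ∧
      (∀ a ∈ s, a = pr m a₀ → g a = 0) ∧ ∃ kd : F, w = ∑ a ∈ s, g a • c a + kd • d) →
      f (c a₀) w = 0 ∧ ∀ t : Matrix.GeneralLinearGroup (Fin n) F, IsSv Q f t (c a₀) w → t ∈ H := by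
    rintro w ⟨s, g, hs, hg, kd, rfl⟩
    classical
    induction s using Finset.induction_on with
    | empty =>
      rw [Finset.sum_empty, zero_add]
      exact ⟨by rw [s_smul_right hf, fr.cd a₀ ha₀, mul_zero], fun t ht => hFS kd t ht⟩
    | insert a s has ih =>
      have ha : a < 2 * m := hs a (Finset.mem_insert_self a s)
      obtain ⟨ih1, ih2⟩ := ih (fun b hb => hs b (Finset.mem_insert_of_mem hb))
        (fun b hb => hg b (Finset.mem_insert_of_mem hb))
      rw [Finset.sum_insert has, add_assoc]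
      -- the single term
      have hterm : f (c a₀) (g a • c a) = 0 ∧
          ∀ t : Matrix.GeneralLinearGroup (Fin n) F, IsSv Q f t (c a₀) (g a • c a) → t ∈ H := by
        by_cases h1 : a = pr m a₀
        · rw [hg a (Finset.mem_insert_self a s) h1, zero_smul]
          refine ⟨f_zero_right hf _, fun t ht => ?_⟩
          rw [isSv_ext ht (isSv_one hq _)]
          exact H.one_mem
        by_cases h2 : a = a₀
        · subst h2
          refine ⟨by rw [s_smul_right hf, f_sing hq hq0, mul_zero], fun t ht => ?_⟩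
          have : t = 1 := gl_ext _ _ (fun x => by
            rw [ht x, Sv_self hq hq0, Units.val_one, Matrix.one_mulVec])
          rw [this]
          exact H.one_mem
        · have hab : a ≠ a₀ + m ∧ a₀ ≠ a + m := by
            unfold pr at h1
            split_ifs at h1 <;> omega
          refine ⟨by rw [s_smul_right hf, fr.orth a₀ a ha₀ ha hab.1 hab.2, mul_zero],
            fun t ht => ?_⟩
          exact hFL a ha hab.1 hab.2 (g a) t (isSg_of_isSv hq (fr.qc a ha) ht)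
      refine ⟨by rw [f_add_right hf, hterm.1, ih1, add_zero], fun t ht => ?_⟩
      obtain ⟨t₁, _, ht₁⟩ := exists_isSv hq vf hG hq0 hterm.1
      obtain ⟨t₂, _, ht₂⟩ := exists_isSv hq vf hG hq0 ih1
      have h3 := isSv_mul hq hq0 hterm.1 ih1 ht₁ ht₂
      rw [isSv_ext ht h3]
      exact H.mul_mem (hterm.2 t₁ ht₁) (ih2 t₂ ht₂)
  have hkv := key (k • v) ⟨Finset.range (2 * m), fun a => k * f v (c (pr m a)),
    fun a ha => Finset.mem_range.1 ha, fun a _ h => by
      show k * f v (c (pr m a)) = 0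
      rw [h, pr_pr ha₀, s_symm hf, hcv, mul_zero], k * (f v d * 2⁻¹), by
      conv_lhs => rw [fr.span v]
      rw [smul_add, Finset.smul_sum, smul_smul]
      congr 1
      apply Finset.sum_congr rfl
      intro a _
      rw [smul_smul]⟩
  exact hkv.2 t (isSv_of_isSg hq hv ht)

end Cfsg.Agent.Lib.Helper29.OG
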