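import Cfsg.Agent.Lib.Helper29.OG.Cox
import Cfsg.Agent.Lib.Helper29.OG.Rad
import Cfsg.Agent.Lib.Helper29.OG.FrameFin

/-!
# Hyperbolic frames with an arbitrary complement `W` (abstract setting)
-/

set_option autoImplicit false

namespace Cfsg.Agent.Lib.Helper29.OG

open Matrix Cfsg.Agent.Lib.Helper28.HForm Cfsg.Agent.Lib.Helper28.OGen
  Cfsg.Agent.Lib.Helper28.OMax Cfsg.Agent.Lib.Helper28.OIwa Cfsg.Agent.Lib.Helper28.OQ
  Cfsg.Agent.Lib.Helper28.OMax2 Cfsg.Agent.Lib.Helper28.OIwa2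

variable {n : ℕ} {F : Type*} [Field F] {Q : (Fin n → F) → F}
  {f : (Fin n → F) → (Fin n → F) → F}

/-- a hyperbolic frame: `c a` (`a < 2m`) singular, `c a` paired with `c (a+m)`. -/
structure PFrame (Q : (Fin n → F) → F) (f : (Fin n → F) → (Fin n → F) → F) (m : ℕ)
    (c : ℕ → Fin n → F) : Prop where
  qc : ∀ a, a < 2 * m → Q (c a) = 0
  pair : ∀ a, a < m → f (c a) (c (a + m)) = 1
  orth : ∀ a b, a < 2 * m → b < 2 * m → b ≠ a + m → a ≠ b + m → f (c a) (c b) = 0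

/-- the orthogonal complement of the frame. -/
def Wp (f : (Fin n → F) → (Fin n → F) → F) (m : ℕ) (c : ℕ → Fin n → F) : Set (Fin n → F) :=
  {w | ∀ a, a < 2 * m → f (c a) w = 0}

variable {m : ℕ} {c : ℕ → Fin n → F}

theorem Wp_zero (hf : SymF f) : (0 : Fin n → F) ∈ Wp f m c := fun a _ => f_zero_right hf _

theorem Wp_add (hf : SymF f) {w w' : Fin n → F} (hw : w ∈ Wp f m c) (hw' : w' ∈ Wp f m c) :
    w + w' ∈ Wp f m c := fun a ha => by rw [f_add_right hf, hw a ha, hw' a ha, add_zero]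

theorem Wp_smul (hf : SymF f) (k : F) {w : Fin n → F} (hw : w ∈ Wp f m c) :
    k • w ∈ Wp f m c := fun a ha => by rw [s_smul_right hf, hw a ha, mul_zero]

theorem Wp_neg (hf : SymF f) {w : Fin n → F} (hw : w ∈ Wp f m c) : -w ∈ Wp f m c :=
  fun a ha => by rw [f_neg_right hf, hw a ha, neg_zero]

theorem Wp_sub (hf : SymF f) {w w' : Fin n → F} (hw : w ∈ Wp f m c) (hw' : w' ∈ Wp f m c) :
    w - w' ∈ Wp f m c := fun a ha => by rw [f_sub_right hf, hw a ha, hw' a ha, sub_zero]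

theorem PFrame.pair' (hq : QF Q f) (fr : PFrame Q f m c) {a : ℕ} (ha : a < m) :
    f (c (a + m)) (c a) = 1 := by
  rw [s_symm hq.sym, fr.pair a ha]

theorem PFrame.hpp (hq : QF Q f) (fr : PFrame Q f m c) {b : ℕ} (hb : b < 2 * m) :
    f (c (pr m b)) (c b) = 1 := by
  by_cases hbm : b < m
  · rw [pr_of_lt hbm, s_symm hq.sym]
    exact fr.pair b hbm
  · obtain ⟨b', hb', rfl⟩ : ∃ b', b' < m ∧ b = b' + m := ⟨b - m, by omega, by omega⟩
    rw [pr_add]
    exact fr.pair b' hb'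

/-- the frame part of a vector. -/
noncomputable def fpart (f : (Fin n → F) → (Fin n → F) → F) (m : ℕ) (c : ℕ → Fin n → F)
    (x : Fin n → F) : Fin n → F :=
  ∑ a ∈ Finset.range (2 * m), f x (c (pr m a)) • c a

/-- every vector is its frame part plus an element of `Wp`. -/
theorem PFrame.sub_mem_Wp (hq : QF Q f) (fr : PFrame Q f m c) (x : Fin n → F) :
    x - fpart f m c x ∈ Wp f m c := by
  have hf := hq.sym
  intro b hb
  rw [s_symm hf, f_sub_left hf]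
  unfold fpart
  rw [f_sum_left hf, Finset.sum_eq_single (pr m b)]
  · rw [hf.smul_left, fr.hpp hq hb, pr_pr hb, mul_one, sub_self]
  · intro a ha hab
    rw [hf.smul_left, fr.orth a b (Finset.mem_range.1 ha) hb, mul_zero]
    · unfold pr at hab
      split_ifs at hab <;> omega
    · have := Finset.mem_range.1 ha
      unfold pr at hab
      split_ifs at hab <;> omega
  · intro h
    exact absurd (Finset.mem_range.2 (pr_lt hb)) h

/-- two elements of `GL` agreeing on the frame and on `Wp` are equal. -/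
theorem PFrame.ext_gl (hq : QF Q f) (fr : PFrame Q f m c)
    (g g' : Matrix.GeneralLinearGroup (Fin n) F)
    (hc : ∀ a, a < 2 * m → (g : Matrix (Fin n) (Fin n) F) *ᵥ c a =
      (g' : Matrix (Fin n) (Fin n) F) *ᵥ c a)
    (hw : ∀ w ∈ Wp f m c, (g : Matrix (Fin n) (Fin n) F) *ᵥ w =
      (g' : Matrix (Fin n) (Fin n) F) *ᵥ w) :
    g = g' := by
  apply gl_ext
  intro x
  have hx : x = fpart f m c x + (x - fpart f m c x) := by abel
  have key : ∀ (L : (Fin n → F) →ₗ[F] (Fin n → F)),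
      L (fpart f m c x) = ∑ a ∈ Finset.range (2 * m), f x (c (pr m a)) • L (c a) := by
    intro L
    unfold fpart
    rw [map_sum]
    apply Finset.sum_congr rfl
    intro a _
    rw [map_smul]
  have h1 := key (Matrix.mulVecLin (g : Matrix (Fin n) (Fin n) F))
  have h2 := key (Matrix.mulVecLin (g' : Matrix (Fin n) (Fin n) F))
  simp only [Matrix.mulVecLin_apply] at h1 h2
  rw [hx, Matrix.mulVec_add, Matrix.mulVec_add, h1, h2, hw _ (fr.sub_mem_Wp hq x)]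
  congr 1
  apply Finset.sum_congr rfl
  intro a ha
  rw [hc a (Finset.mem_range.1 ha)]

/-- the reflection in `d` (for `Q d = 1`). -/
def rfl1 (f : (Fin n → F) → (Fin n → F) → F) (d w : Fin n → F) : Fin n → F := w - f d w • d

theorem rfl1_mem (hf : SymF f) {d w : Fin n → F} (hd : d ∈ Wp f m c) (hw : w ∈ Wp f m c) :
    rfl1 f d w ∈ Wp f m c := Wp_sub hf hw (Wp_smul hf _ hd)

theorem rfl1_rfl1 (hq : QF Q f) {d : Fin n → F} (hd : Q d = 1) (w : Fin n → F) :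
    rfl1 f d (rfl1 f d w) = w := by
  have hf := hq.sym
  unfold rfl1
  rw [f_sub_right hf, s_smul_right hf, f_self hq, hd]
  module

theorem rfl1_smul (hf : SymF f) (d : Fin n → F) (k : F) (w : Fin n → F) :
    rfl1 f d (k • w) = k • rfl1 f d w := by
  unfold rfl1
  rw [s_smul_right hf]
  module

theorem rfl1_Q (hq : QF Q f) {d : Fin n → F} (hd : Q d = 1) (w : Fin n → F) :
    Q (rfl1 f d w) = Q w := by
  have hf := hq.sym
  unfold rfl1
  have e : w - f d w • d = w + (-(f d w)) • d := by module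
  rw [e, hq.polar, hq.smul, hd, s_smul_right hf, s_symm hf w d]
  ring

/-- `g` is sign-monomial on the frame with index map `σ` and acts on `Wp` by `ρ`. -/
def Mono2 (f : (Fin n → F) → (Fin n → F) → F) (m : ℕ) (c : ℕ → Fin n → F)
    (ρ : (Fin n → F) → Fin n → F) (g : Matrix.GeneralLinearGroup (Fin n) F) (σ : ℕ → ℕ) : Prop :=
  (∀ a, a < 2 * m → ∃ ε : F, (ε = 1 ∨ ε = -1) ∧
    (g : Matrix (Fin n) (Fin n) F) *ᵥ c a = ε • c (σ a)) ∧
    ∀ w ∈ Wp f m c, (g : Matrix (Fin n) (Fin n) F) *ᵥ w = ρ w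

theorem Mono2.mul {g₁ g₂ : Matrix.GeneralLinearGroup (Fin n) F} {σ₁ σ₂ : ℕ → ℕ}
    {ρ₁ ρ₂ : (Fin n → F) → Fin n → F}
    (h₁ : Mono2 f m c ρ₁ g₁ σ₁) (h₂ : Mono2 f m c ρ₂ g₂ σ₂)
    (hσ : ∀ a, a < 2 * m → σ₂ a < 2 * m) (hρ : ∀ w ∈ Wp f m c, ρ₂ w ∈ Wp f m c) :
    Mono2 f m c (fun w => ρ₁ (ρ₂ w)) (g₁ * g₂) (fun a => σ₁ (σ₂ a)) := by
  refine ⟨fun a ha => ?_, fun w hw => ?_⟩
  · obtain ⟨ε₂, hε₂, e₂⟩ := h₂.1 a ha
    obtain ⟨ε₁, hε₁, e₁⟩ := h₁.1 (σ₂ a) (hσ a ha)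
    refine ⟨ε₂ * ε₁, ?_, ?_⟩
    · rcases hε₁ with rfl | rfl <;> rcases hε₂ with rfl | rfl <;> simp
    · rw [Cfsg.Agent.S5643.mul_mv, e₂, Matrix.mulVec_smul, e₁, smul_smul]
  · rw [Cfsg.Agent.S5643.mul_mv, h₂.2 w hw, h₁.2 _ (hρ w hw)]

theorem Mono2.congr {g : Matrix.GeneralLinearGroup (Fin n) F} {σ σ' : ℕ → ℕ}
    {ρ ρ' : (Fin n → F) → Fin n → F}
    (h : Mono2 f m c ρ g σ) (hσ : ∀ a, a < 2 * m → σ a = σ' a)
    (hρ : ∀ w ∈ Wp f m c, ρ w = ρ' w) : Mono2 f m c ρ' g σ' := by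
  refine ⟨fun a ha => ?_, fun w hw => ?_⟩
  · obtain ⟨ε, hε, e⟩ := h.1 a ha
    exact ⟨ε, hε, by rw [e, hσ a ha]⟩
  · rw [h.2 w hw, hρ w hw]

end Cfsg.Agent.Lib.Helper29.OG
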