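import Cfsg.Agent.Lib.Helper29.OG.DesignZ
import Cfsg.Agent.Lib.Helper29.OG.MinusBridge
import Cfsg.Agent.Lib.Helper16.PlusFam

/-!
# `Ω⁺_{2k+2}(q)`, `k ≥ 3`, is generated by two elements
-/

set_option autoImplicit false

namespace Cfsg.Agent.Lib.Helper29.OG

open Matrix Cfsg.Agent.Lib.Lead Cfsg.Agent.Lib.Helper28.HForm Cfsg.Agent.Lib.Helper28.OGen
  Cfsg.Agent.Lib.Helper28.OMax Cfsg.Agent.Lib.Helper28.OIwa Cfsg.Agent.Lib.Helper28.OQ
  Cfsg.Agent.Lib.Helper28.OMax2 Cfsg.Agent.Lib.Helper28.OIwa2 Cfsg.Agent.Lib.Helper28.OGenQ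
  Cfsg.Agent.Lib.Helper28.OTrans Cfsg.Agent.Lib.Helper28.OIwaQ
  Cfsg.Agent.Lib.Helper16 Cfsg.Agent.S0795

variable {F : Type*} [Field F]

section concrete

variable (k : ℕ)

/-- abbreviation for the index type. -/
abbrev PIdx (k : ℕ) : Type := Fin (k + 1) ⊕ Fin (k + 1)

theorem qplus_single (j : PIdx k) :
    Cfsg.quadFormPlus (k + 1) F (Pi.single j 1) = 0 := by
  unfold Cfsg.quadFormPlus
  rcases j with i | i
  · simp
  · simp

theorem qplus_d (s t : F) :
    Cfsg.quadFormPlus (k + 1) F (s • Pi.single (Sum.inl (Fin.last k)) 1 +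
      t • Pi.single (Sum.inr (Fin.last k)) 1) = s * t := by
  unfold Cfsg.quadFormPlus
  simp [Pi.single_apply]

theorem pplus_d (w : PIdx k → F) (s t : F) :
    QuadraticMap.polar (Cfsg.quadFormPlus (k + 1) F) w
      (s • Pi.single (Sum.inl (Fin.last k)) 1 + t • Pi.single (Sum.inr (Fin.last k)) 1) =
      t * w (Sum.inl (Fin.last k)) + s * w (Sum.inr (Fin.last k)) := by
  rw [polar_plus]
  simp [Pi.single_apply, Finset.sum_add_distrib]
  ring

theorem pplus_inl (w : PIdx k → F) (j : Fin (k + 1)) :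
    QuadraticMap.polar (Cfsg.quadFormPlus (k + 1) F) w (Pi.single (Sum.inl j) 1) =
      w (Sum.inr j) := by
  rw [polar_plus]
  simp [Pi.single_apply]

theorem pplus_inr (w : PIdx k → F) (j : Fin (k + 1)) :
    QuadraticMap.polar (Cfsg.quadFormPlus (k + 1) F) w (Pi.single (Sum.inr j) 1) =
      w (Sum.inl j) := by
  rw [polar_plus]
  simp [Pi.single_apply]

end concrete

/-- the concrete frame data for the plus-type form. -/
theorem plus_setup (k : ℕ) {n : ℕ} (e : PIdx k ≃ Fin n) (t : F) (ht : t ≠ 1) :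
    ∃ (c : ℕ → Fin n → F) (d₁ d₂ : Fin n → F),
      PFrame (⇑(RI.qReindex e (qfPlus (k + 1) F))) (pf (RI.qReindex e (qfPlus (k + 1) F))) k c ∧
      (RI.qReindex e (qfPlus (k + 1) F)) d₁ = 1 ∧
      d₁ ∈ Wp (pf (RI.qReindex e (qfPlus (k + 1) F))) k c ∧
      d₂ ∈ Wp (pf (RI.qReindex e (qfPlus (k + 1) F))) k c ∧
      pf (RI.qReindex e (qfPlus (k + 1) F)) d₁ d₂ = t + 1 ∧
      (RI.qReindex e (qfPlus (k + 1) F)) d₂ = t ∧
      ∀ w ∈ Wp (pf (RI.qReindex e (qfPlus (k + 1) F))) k c, ∃ s t' : F, w = s • d₁ + t' • d₂ := by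
  have hQ₀ := qfPlus_nondeg (k + 1) F
  have hQ' := RI.qReindex_nondeg e _ hQ₀
  have hq := qf_of_quad (RI.qReindex e (qfPlus (k + 1) F)) hQ'
  have hf := hq.sym
  have hL : ∀ w : PIdx k → F, (w ∘ e.symm) ∘ e = w := by
    intro w
    funext i
    simp
  have hQL : ∀ w : PIdx k → F, (RI.qReindex e (qfPlus (k + 1) F)) (w ∘ e.symm) =
      Cfsg.quadFormPlus (k + 1) F w := by
    intro w
    rw [RI.qReindex_coe]
    show (qfPlus (k + 1) F) ((w ∘ e.symm) ∘ e) = _
    rw [hL, qfPlus_coe]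
  have hpf : ∀ (x : Fin n → F) (w : PIdx k → F),
      pf (RI.qReindex e (qfPlus (k + 1) F)) x (w ∘ e.symm) =
      QuadraticMap.polar (Cfsg.quadFormPlus (k + 1) F) (x ∘ e) w := by
    intro x w
    show QuadraticMap.polar (⇑(RI.qReindex e (qfPlus (k + 1) F))) x (w ∘ e.symm) = _
    rw [RI.qReindex_coe, qfPlus_coe]
    unfold QuadraticMap.polar
    have e1 : (x + w ∘ e.symm) ∘ e = x ∘ e + w := by
      funext i
      simp
    simp only [e1, hL]
  have hpf' : ∀ (x : Fin n → F) (w : PIdx k → F),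
      pf (RI.qReindex e (qfPlus (k + 1) F)) (w ∘ e.symm) x =
      QuadraticMap.polar (Cfsg.quadFormPlus (k + 1) F) (x ∘ e) w := by
    intro x w
    rw [s_symm hf, hpf]
  obtain ⟨u, hu⟩ : ∃ u : Fin k → Fin n → F, ∀ i,
      u i = (Pi.single (Sum.inl (Fin.castSucc i)) (1 : F) : PIdx k → F) ∘ e.symm :=
    ⟨_, fun _ => rfl⟩
  obtain ⟨v, hv⟩ : ∃ v : Fin k → Fin n → F, ∀ i,
      v i = (Pi.single (Sum.inr (Fin.castSucc i)) (1 : F) : PIdx k → F) ∘ e.symm :=
    ⟨_, fun _ => rfl⟩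
  obtain ⟨d₁, hd₁e⟩ : ∃ d₁ : Fin n → F,
      d₁ = ((1 : F) • Pi.single (Sum.inl (Fin.last k)) (1 : F) +
        (1 : F) • Pi.single (Sum.inr (Fin.last k)) (1 : F) : PIdx k → F) ∘ e.symm := ⟨_, rfl⟩
  obtain ⟨d₂, hd₂e⟩ : ∃ d₂ : Fin n → F,
      d₂ = ((1 : F) • Pi.single (Sum.inl (Fin.last k)) (1 : F) +
        t • Pi.single (Sum.inr (Fin.last k)) (1 : F) : PIdx k → F) ∘ e.symm := ⟨_, rfl⟩
  have hne : ∀ i : Fin k, Fin.last k ≠ Fin.castSucc i := fun i => (Fin.castSucc_ne_last i).symm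
  refine ⟨cOf k u v, d₁, d₂, ?_, ?_, ?_, ?_, ?_, ?_, ?_⟩
  · apply PFrame.of_fin hq
    · intro i
      rw [hu, hQL]
      exact qplus_single k _
    · intro i
      rw [hv, hQL]
      exact qplus_single k _
    · intro i j
      rw [hu, hv, hpf, hL, pplus_inr]
      by_cases hij : i = j
      · subst hij
        simp
      · rw [if_neg hij]
        simp [Ne.symm hij]
    · intro i j
      rw [hu, hu, hpf, hL, pplus_inl]
      simp
    · intro i j
      rw [hv, hv, hpf, hL, pplus_inr]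
      simp
  · rw [hd₁e, hQL, qplus_d, mul_one]
  · rw [mem_Wp_cOf]
    refine ⟨fun i => ?_, fun i => ?_⟩
    · rw [hu, hd₁e, hpf, hL, pplus_d]
      simp [hne i]
    · rw [hv, hd₁e, hpf, hL, pplus_d]
      simp [hne i]
  · rw [mem_Wp_cOf]
    refine ⟨fun i => ?_, fun i => ?_⟩
    · rw [hu, hd₂e, hpf, hL, pplus_d]
      simp [hne i]
    · rw [hv, hd₂e, hpf, hL, pplus_d]
      simp [hne i]
  · rw [hd₁e, hd₂e, hpf, hL, pplus_d]
    simp
  · rw [hd₂e, hQL, qplus_d, one_mul]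
  · intro w hw
    rw [mem_Wp_cOf] at hw
    have ht1 : (1 : F) - t ≠ 0 := fun h => ht (by linear_combination -h)
    have hw1 : ∀ i : Fin k, (w ∘ e) (Sum.inr (Fin.castSucc i)) = 0 := by
      intro i
      have := hw.1 i
      rw [hu, hpf', pplus_inl] at this
      exact this
    have hw2 : ∀ i : Fin k, (w ∘ e) (Sum.inl (Fin.castSucc i)) = 0 := by
      intro i
      have := hw.2 i
      rw [hv, hpf', pplus_inr] at this
      exact this
    refine ⟨(w ∘ e) (Sum.inl (Fin.last k)) -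
      ((w ∘ e) (Sum.inl (Fin.last k)) - (w ∘ e) (Sum.inr (Fin.last k))) / (1 - t),
      ((w ∘ e) (Sum.inl (Fin.last k)) - (w ∘ e) (Sum.inr (Fin.last k))) / (1 - t), ?_⟩
    have hwe : w ∘ e = ((w ∘ e) (Sum.inl (Fin.last k)) -
        ((w ∘ e) (Sum.inl (Fin.last k)) - (w ∘ e) (Sum.inr (Fin.last k))) / (1 - t)) •
        ((1 : F) • Pi.single (Sum.inl (Fin.last k)) (1 : F) +
          (1 : F) • Pi.single (Sum.inr (Fin.last k)) (1 : F) : PIdx k → F) +
        (((w ∘ e) (Sum.inl (Fin.last k)) - (w ∘ e) (Sum.inr (Fin.last k))) / (1 - t)) •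
        ((1 : F) • Pi.single (Sum.inl (Fin.last k)) (1 : F) +
          t • Pi.single (Sum.inr (Fin.last k)) (1 : F) : PIdx k → F) := by
      funext j
      rcases j with j | j
      · rcases Fin.eq_castSucc_or_eq_last j with ⟨i, rfl⟩ | rfl
        · rw [hw2]
          simp [(hne i).symm]
        · simp
      · rcases Fin.eq_castSucc_or_eq_last j with ⟨i, rfl⟩ | rfl
        · rw [hw1]
          simp [(hne i).symm]
        · simp
          field_simp
          ring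
    funext j
    have h1 := congrFun hwe (e.symm j)
    rw [hd₁e, hd₂e]
    simp only [Function.comp_apply, Equiv.apply_symm_apply] at h1
    simp only [Pi.add_apply, Pi.smul_apply, Function.comp_apply, smul_eq_mul]
    rw [h1]
    simp only [Pi.add_apply, Pi.smul_apply, smul_eq_mul]

/-- `Ω⁺_{2k+2}(q)` (reindexed to `Fin`) is generated by two elements. -/
theorem omegaGL_plus_two_gen [Fintype F] (k : ℕ) (hk : 3 ≤ k) :
    ∃ x ∈ Cfsg.Geo.omegaGL (⇑(RI.qReindex (Fintype.equivFin (PIdx k)) (qfPlus (k + 1) F))),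
    ∃ y ∈ Cfsg.Geo.omegaGL (⇑(RI.qReindex (Fintype.equivFin (PIdx k)) (qfPlus (k + 1) F))),
      Subgroup.closure ({x, y} :
        Set (Matrix.GeneralLinearGroup (Fin (Fintype.card (PIdx k))) F)) =
        Cfsg.Geo.omegaGL (⇑(RI.qReindex (Fintype.equivFin (PIdx k)) (qfPlus (k + 1) F))) := by
  classical
  have hn : 7 ≤ Fintype.card (PIdx k) := by
    simp only [Fintype.card_sum, Fintype.card_fin]
    omega
  generalize Fintype.equivFin (PIdx k) = e
  generalize Fintype.card (PIdx k) = n at e hn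
  have hQ₀ := qfPlus_nondeg (k + 1) F
  have hQ' := RI.qReindex_nondeg e _ hQ₀
  have hq := qf_of_quad (RI.qReindex e (qfPlus (k + 1) F)) hQ'
  have vf := vfacts_quad hn (RI.qReindex e (qfPlus (k + 1) F)) hQ'
  have hG := sgGroupQ_quad hn (RI.qReindex e (qfPlus (k + 1) F)) hQ'
  have hf := hq.sym
  by_cases h2 : (2 : F) = 0
  · by_cases hF2 : ∀ x : F, x = 0 ∨ x = 1
    · obtain ⟨c, d₁, d₂, fr, hd₁, hd₁W, hd₂W, hal, _, hspan⟩ :=
        plus_setup (F := F) k e 0 zero_ne_one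
      refine two_gen_Z hq vf hG hF2 hk fr hd₁ hd₁W hd₂W ?_ hspan
      rw [hal, zero_add]
      exact one_ne_zero
    · push Not at hF2
      obtain ⟨t, ht0, ht1⟩ := hF2
      obtain ⟨c, d₁, d₂, fr, hd₁, hd₁W, hd₂W, hal, hQd, hspan⟩ :=
        plus_setup (F := F) k e t ht1
      have hal' : pf (RI.qReindex e (qfPlus (k + 1) F)) d₁ d₂ ≠ 0 := by
        rw [hal]
        intro h
        apply ht1
        have : t = -1 := by linear_combination h
        rw [this]
        linear_combination -h2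
      refine two_gen_EO hq vf hG hk fr hd₁ hd₁W hd₂W hal' ?_ ?_ hspan
      · unfold rfl1
        rw [f_sub_right hf, s_smul_right hf, f_self hq, h2, zero_mul, zero_sub, s_symm hf d₂ d₁]
        exact neg_ne_zero.2 (mul_ne_zero hal' hal')
      · intro _
        rw [hQd]
        exact ht0
  · obtain ⟨c, d₁, d₂, fr, hd₁, hd₁W, hd₂W, hal, _, hspan⟩ :=
      plus_setup (F := F) k e 0 zero_ne_one
    refine two_gen_Y hq vf hG h2 hk fr hd₁ hd₁W hd₂W ?_ hspan
    rw [hal, zero_add]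
    exact one_ne_zero

/-- `PΩ⁺_{2k+2}(q)`, `k ≥ 3`, is generated by two elements. -/
theorem pomega_plus_two_gen [Fintype F] (k : ℕ) (hk : 3 ≤ k) :
    ∃ x y : Cfsg.POmega F (Cfsg.quadFormPlus (k + 1) F),
      Subgroup.closure ({x, y} : Set (Cfsg.POmega F (Cfsg.quadFormPlus (k + 1) F))) = ⊤ :=
  pomega_two_gen_of_reindexed (qfPlus (k + 1) F) (omegaGL_plus_two_gen k hk)

end Cfsg.Agent.Lib.Helper29.OG
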