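import Cfsg.Agent.Lib.Helper29.OG.BW

/-!
# Conjugating a short root element by a long root element
-/

set_option autoImplicit false

namespace Cfsg.Agent.Lib.Helper29.OG

open Matrix Cfsg.Agent.Lib.Helper28.HForm Cfsg.Agent.Lib.Helper28.OGen
  Cfsg.Agent.Lib.Helper28.OMax Cfsg.Agent.Lib.Helper28.OIwa Cfsg.Agent.Lib.Helper28.OQ
  Cfsg.Agent.Lib.Helper28.OMax2 Cfsg.Agent.Lib.Helper28.OIwa2

variable {n : ℕ} {F : Type*} [Field F] {Q : (Fin n → F) → F}
  {f : (Fin n → F) → (Fin n → F) → F}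

/-- `S_{p+p',u} = S_{p,u} S_{p',u} T_{p',p}(Q u)`. -/
theorem Sv_add_left (hq : QF Q f) {p p' u : Fin n → F} (hp : Q p = 0) (hp' : Q p' = 0)
    (hpp' : f p p' = 0) (hpu : f p u = 0) (hp'u : f p' u = 0) (x : Fin n → F) :
    Sv Q f (p + p') u x = Sv Q f p u (Sv Q f p' u (Tv f p' p (Q u) x)) := by
  have hf := hq.sym
  have hpp := f_sing hq hp
  have hp'p' := f_sing hq hp'
  have hp'p : f p' p = 0 := by rw [s_symm hf, hpp']
  have hup : f u p = 0 := by rw [s_symm hf, hpu]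
  have hup' : f u p' = 0 := by rw [s_symm hf, hp'u]
  have huu : f u u = 2 * Q u := f_self hq u
  unfold Sv Tv
  simp only [f_add_right hf, f_sub_right hf, s_smul_right hf, hf.add_left, hpp, hp'p', hpp', hp'p,
    hpu, hp'u, hup, hup', huu]
  module

theorem Tv_smul_left (hf : SymF f) (s : F) (u v : Fin n → F) (t : F) (x : Fin n → F) :
    Tv f (s • u) v t x = Tv f u v (t * s) x := by
  unfold Tv
  rw [hf.smul_left]
  module

variable {m : ℕ} {c : ℕ → Fin n → F}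

section r2

variable (hq : QF Q f) (vf : VFacts Q f)
  {G : Subgroup (Matrix.GeneralLinearGroup (Fin n) F)} (hG : SgGroupQ Q f G)
  (fr : PFrame Q f m c) {H : Subgroup (Matrix.GeneralLinearGroup (Fin n) F)}

include hq vf hG fr

/-- conjugating `S_{b'}(u)` by `T_{a,b}(k)` (`b' = pr b`) produces `S_a(-k u) T_{a,b'}(-k Q u)`. -/
theorem R2 {a b : ℕ} (ha : a < 2 * m) (hb : b < 2 * m)
    (hab : a ≠ b) (hab' : a ≠ pr m b) {u : Fin n → F} (hu : u ∈ Wp f m c)
    (hFL : FL f c H a b) (hS : SW Q f c H (pr m b) u) (k : F) :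
    ∃ B C : Matrix.GeneralLinearGroup (Fin n) F, IsSv Q f B (c a) ((-k) • u) ∧
      IsSg f C (c a) (c (pr m b)) (-(k * Q u)) ∧ B * C ∈ H := by
  have hf := hq.sym
  have hb' := pr_lt hb
  have hv1 : b ≠ a + m ∧ a ≠ b + m := by
    unfold pr at hab'
    split_ifs at hab' <;> omega
  have hv2 : pr m b ≠ a + m ∧ a ≠ pr m b + m := by
    unfold pr
    split_ifs <;> omega
  have hqa := fr.qc a ha
  have hqb := fr.qc b hb
  have hqb' := fr.qc _ hb'
  have hoab := fr.orth a b ha hb hv1.1 hv1.2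
  have hoab' := fr.orth a (pr m b) ha hb' hv2.1 hv2.2
  obtain ⟨T, hT⟩ := hG.ex (c a) (c b) k hqa hqb hoab
  have hTG := hG.sg T _ _ k hqa hqb hoab hT
  have hTH := hFL k T hT
  obtain ⟨S, _, hS'⟩ := exists_isSv hq vf hG hqb' (hu _ hb')
  have hSH := hS S hS'
  have hbb' : f (c b) (c (pr m b)) = 1 := by
    rw [s_symm hf]
    exact fr.hpp hq hb
  have e1 : (T : Matrix (Fin n) (Fin n) F) *ᵥ c (pr m b) = c (pr m b) + (-k) • c a := by
    rw [hT (c (pr m b)), Tv_apply_of k hoab' hbb']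
    module
  have e2 : (T : Matrix (Fin n) (Fin n) F) *ᵥ u = u := by
    rw [hT u, Tv_apply_of k (hu a ha) (hu b hb)]
    module
  have h1 := isSv_conj hq (hG.iso T hTG) hS'
  rw [e1, e2] at h1
  have hau : f (c a) ((-k) • u) = 0 := by rw [s_smul_right hf, hu a ha, mul_zero]
  obtain ⟨B, _, hB⟩ := exists_isSv hq vf hG hqa hau
  obtain ⟨C, hC⟩ := hG.ex (c a) (c (pr m b)) (-(k * Q u)) hqa hqb' hoab'
  refine ⟨B, C, hB, hC, ?_⟩
  have hq1 : Q ((-k) • c a) = 0 := by rw [hq.smul, hqa, mul_zero]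
  have hq2 : f (c (pr m b)) ((-k) • c a) = 0 := by
    rw [s_smul_right hf, s_symm hf, hoab', mul_zero]
  have hq3 : f ((-k) • c a) u = 0 := by rw [hf.smul_left, hu a ha, mul_zero]
  have h3 : T * S * T⁻¹ = S * B * C := gl_ext _ _ (fun x => by
    rw [h1 x, Cfsg.Agent.S5643.mul_mv, Cfsg.Agent.S5643.mul_mv, hC x, hB, hS',
      Sv_add_left hq hqb' hq1 hq2 (hu _ hb') hq3 x, Sv_smul_left hq, Tv_smul_left hf]
    have e : Q u * -k = -(k * Q u) := by ring
    rw [e])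
  have h4 : B * C = S⁻¹ * (T * S * T⁻¹) := by
    rw [h3]
    group
  rw [h4]
  exact H.mul_mem (H.inv_mem hSH) (H.mul_mem (H.mul_mem hTH hSH) (H.inv_mem hTH))

/-- `R2` used to transport a short root line. -/
theorem R2_S {a b : ℕ} (ha : a < 2 * m) (hb : b < 2 * m)
    (hab : a ≠ b) (hab' : a ≠ pr m b) {u : Fin n → F} (hu : u ∈ Wp f m c)
    (hFL : FL f c H a b) (hS : SW Q f c H (pr m b) u) (hFL' : FL f c H a (pr m b)) (k : F) :
    SW Q f c H a (k • u) := by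
  obtain ⟨B, C, hB, hC, hBC⟩ := R2 hq vf hG fr ha hb hab hab' hu hFL hS (-k)
  rw [neg_neg] at hB
  intro g hg
  rw [isSv_ext hg hB]
  have hCH := hFL' _ C hC
  have : B = B * C * C⁻¹ := by group
  rw [this]
  exact H.mul_mem hBC (H.inv_mem hCH)

/-- `R2` used to produce a long root group. -/
theorem R2_T {a b : ℕ} (ha : a < 2 * m) (hb : b < 2 * m)
    (hab : a ≠ b) (hab' : a ≠ pr m b) {u : Fin n → F} (hu : u ∈ Wp f m c)
    (hFL : FL f c H a b) (hS : SW Q f c H (pr m b) u) (hSa : ∀ k : F, SW Q f c H a (k • u))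
    (hQu : Q u ≠ 0) : FL f c H a (pr m b) := by
  intro k' t ht
  obtain ⟨B, C, hB, hC, hBC⟩ := R2 hq vf hG fr ha hb hab hab' hu hFL hS (-(k' / Q u))
  have e : -(-(k' / Q u) * Q u) = k' := by field_simp
  rw [e] at hC
  have hBH := hSa _ B hB
  have h3 : t = C := gl_ext _ _ (fun x => by rw [ht x, hC x])
  rw [h3]
  have : C = B⁻¹ * (B * C) := by group
  rw [this]
  exact H.mul_mem (H.inv_mem hBH) hBC

end r2

end Cfsg.Agent.Lib.Helper29.OG
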