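import Cfsg.Agent.Lib.Helper28.OIwa2

/-!
# General Siegel transformations `S_{u,w}` (with `w ⟂ u` arbitrary) in helper28's abstract setting
-/

set_option autoImplicit false

namespace Cfsg.Agent.Lib.Helper29.OG

open Matrix Cfsg.Agent.Lib.Helper28.HForm Cfsg.Agent.Lib.Helper28.OGen
  Cfsg.Agent.Lib.Helper28.OMax Cfsg.Agent.Lib.Helper28.OIwa Cfsg.Agent.Lib.Helper28.OQ
  Cfsg.Agent.Lib.Helper28.OMax2 Cfsg.Agent.Lib.Helper28.OIwa2

variable {n : ℕ} {F : Type*} [Field F] {Q : (Fin n → F) → F}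
  {f : (Fin n → F) → (Fin n → F) → F}

/-- the general Siegel map `x ↦ x + f(u,x) w - f(w,x) u - Q(w) f(u,x) u`. -/
def Sv (Q : (Fin n → F) → F) (f : (Fin n → F) → (Fin n → F) → F) (u w x : Fin n → F) :
    Fin n → F :=
  x + f u x • w - f w x • u - (Q w * f u x) • u

/-- `t` acts as the general Siegel map `S_{u,w}`. -/
def IsSv (Q : (Fin n → F) → F) (f : (Fin n → F) → (Fin n → F) → F)
    (t : Matrix.GeneralLinearGroup (Fin n) F) (u w : Fin n → F) : Prop :=
  ∀ x, (t : Matrix (Fin n) (Fin n) F) *ᵥ x = Sv Q f u w x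

theorem Sv_comp (hq : QF Q f) {u w w' : Fin n → F} (hu : Q u = 0) (huw : f u w = 0)
    (huw' : f u w' = 0) (x : Fin n → F) : Sv Q f u w (Sv Q f u w' x) = Sv Q f u (w + w') x := by
  have hf := hq.sym
  have huu := f_sing hq hu
  have hwu : f w u = 0 := by rw [s_symm hf, huw]
  unfold Sv
  simp only [f_add_right hf, f_sub_right hf, s_smul_right hf, hf.add_left, hq.polar, huu, huw',
    hwu]
  module

theorem Sv_zero (hq : QF Q f) (u x : Fin n → F) : Sv Q f u 0 x = x := by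
  unfold Sv
  rw [Q_zero hq, f_zero_left hq.sym]
  module

theorem Sv_self (hq : QF Q f) {u : Fin n → F} (hu : Q u = 0) (k : F) (x : Fin n → F) :
    Sv Q f u (k • u) x = x := by
  unfold Sv
  rw [hq.smul, hu, hq.sym.smul_left]
  module

theorem Sv_sing (hq : QF Q f) {v : Fin n → F} (hv : Q v = 0) (u : Fin n → F) (c : F)
    (x : Fin n → F) : Sv Q f u (c • v) x = Tv f u v c x := by
  unfold Sv Tv
  rw [hq.smul, hv, hq.sym.smul_left]
  module

theorem Sv_smul_left (hq : QF Q f) (a : F) (u w x : Fin n → F) :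
    Sv Q f (a • u) w x = Sv Q f u (a • w) x := by
  unfold Sv
  rw [hq.smul, hq.sym.smul_left, hq.sym.smul_left]
  module

theorem isSv_mul (hq : QF Q f) {t t' : Matrix.GeneralLinearGroup (Fin n) F} {u w w' : Fin n → F}
    (hu : Q u = 0) (huw : f u w = 0) (huw' : f u w' = 0) (ht : IsSv Q f t u w)
    (ht' : IsSv Q f t' u w') : IsSv Q f (t * t') u (w + w') := by
  intro x
  rw [Cfsg.Agent.S5643.mul_mv, ht' x, ht, Sv_comp hq hu huw huw']

theorem isSv_one (hq : QF Q f) (u : Fin n → F) :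
    IsSv Q f (1 : Matrix.GeneralLinearGroup (Fin n) F) u 0 := by
  intro x
  rw [Sv_zero hq, Units.val_one, Matrix.one_mulVec]

theorem isSv_ext {t t' : Matrix.GeneralLinearGroup (Fin n) F} {u w : Fin n → F}
    (ht : IsSv Q f t u w) (ht' : IsSv Q f t' u w) : t = t' :=
  gl_ext t t' (fun x => by rw [ht x, ht' x])

theorem isSv_congr {t : Matrix.GeneralLinearGroup (Fin n) F} {u w u' w' : Fin n → F}
    (ht : IsSv Q f t u w) (h : ∀ x, Sv Q f u w x = Sv Q f u' w' x) : IsSv Q f t u' w' :=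
  fun x => by rw [ht x, h x]

theorem isSv_of_isSg (hq : QF Q f) {t : Matrix.GeneralLinearGroup (Fin n) F} {u v : Fin n → F}
    {c : F} (hv : Q v = 0) (ht : IsSg f t u v c) : IsSv Q f t u (c • v) :=
  fun x => by rw [ht x, Sv_sing hq hv]

theorem isSg_of_isSv (hq : QF Q f) {t : Matrix.GeneralLinearGroup (Fin n) F} {u v : Fin n → F}
    {c : F} (hv : Q v = 0) (ht : IsSv Q f t u (c • v)) : IsSg f t u v c :=
  fun x => by rw [ht x, Sv_sing hq hv]

theorem isSv_inv (hq : QF Q f) {t : Matrix.GeneralLinearGroup (Fin n) F} {u w : Fin n → F}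
    (hu : Q u = 0) (huw : f u w = 0) (ht : IsSv Q f t u w) : IsSv Q f t⁻¹ u (-w) := by
  have huw' : f u (-w) = 0 := by rw [f_neg_right hq.sym, huw, neg_zero]
  intro x
  have h1 := ht (Sv Q f u (-w) x)
  rw [Sv_comp hq hu huw huw', add_neg_cancel, Sv_zero hq] at h1
  rw [← h1, Cfsg.Agent.S5643.inv_mv, h1]

/-- conjugation of a general Siegel element by an isometry. -/
theorem isSv_conj (hq : QF Q f) {t k : Matrix.GeneralLinearGroup (Fin n) F} {u w : Fin n → F}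
    (hk : ∀ x, Q ((k : Matrix (Fin n) (Fin n) F) *ᵥ x) = Q x) (ht : IsSv Q f t u w) :
    IsSv Q f (k * t * k⁻¹) ((k : Matrix (Fin n) (Fin n) F) *ᵥ u)
      ((k : Matrix (Fin n) (Fin n) F) *ᵥ w) := by
  have hiso := iso_f hq k hk
  intro x
  rw [Cfsg.Agent.S5643.mul_mv, Cfsg.Agent.S5643.mul_mv, ht]
  unfold Sv
  have e1 : ∀ a : Fin n → F, f a (((k⁻¹ : Matrix.GeneralLinearGroup (Fin n) F) :
      Matrix (Fin n) (Fin n) F) *ᵥ x) = f ((k : Matrix (Fin n) (Fin n) F) *ᵥ a) x := by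
    intro a
    rw [← hiso a, Cfsg.Agent.S5643.inv_mv']
  rw [e1, e1, hk, Matrix.mulVec_sub, Matrix.mulVec_sub, Matrix.mulVec_add,
    Cfsg.Agent.S5643.inv_mv', Matrix.mulVec_smul, Matrix.mulVec_smul, Matrix.mulVec_smul]

/-- existence of general Siegel elements inside a Siegel group. -/
theorem exists_isSv (hq : QF Q f) (vf : VFacts Q f)
    {G : Subgroup (Matrix.GeneralLinearGroup (Fin n) F)} (hG : SgGroupQ Q f G)
    {u w : Fin n → F} (hu : Q u = 0) (huw : f u w = 0) :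
    ∃ t ∈ G, IsSv Q f t u w := by
  have hf := hq.sym
  by_cases hu0 : u = 0
  · subst hu0
    refine ⟨1, G.one_mem, fun x => ?_⟩
    unfold Sv
    rw [f_zero_left hf, Units.val_one, Matrix.one_mulVec]
    module
  have hwu : f w u = 0 := by rw [s_symm hf, huw]
  obtain ⟨y₁, y₂, hsum, h11, h22, h1u, h2u⟩ := vf.decomp u w hu hu0 hwu
  have hu1 : f u y₁ = 0 := by rw [s_symm hf, h1u]
  have hu2 : f u y₂ = 0 := by rw [s_symm hf, h2u]
  obtain ⟨t₁, ht₁⟩ := hG.ex u y₁ 1 hu h11 hu1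
  obtain ⟨t₂, ht₂⟩ := hG.ex u y₂ 1 hu h22 hu2
  have ht₁G : t₁ ∈ G := hG.sg t₁ u y₁ 1 hu h11 hu1 ht₁
  have ht₂G : t₂ ∈ G := hG.sg t₂ u y₂ 1 hu h22 hu2 ht₂
  refine ⟨t₁ * t₂, G.mul_mem ht₁G ht₂G, ?_⟩
  have h1 := isSv_of_isSg hq h11 ht₁
  have h2 := isSv_of_isSg hq h22 ht₂
  rw [one_smul] at h1 h2
  have h3 := isSv_mul hq hu hu1 hu2 h1 h2
  rw [hsum] at h3
  exact h3

/-- the commutator of two "short root elements". -/
theorem isSv_commutator (hq : QF Q f) {A B : Matrix.GeneralLinearGroup (Fin n) F}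
    {u u' w w' : Fin n → F} (hu : Q u = 0) (hu' : Q u' = 0) (huu' : f u u' = 0)
    (huw : f u w = 0) (huw' : f u w' = 0) (hu'w : f u' w = 0) (hu'w' : f u' w' = 0)
    (hAQ : ∀ x, Q ((A : Matrix (Fin n) (Fin n) F) *ᵥ x) = Q x)
    (hA : IsSv Q f A u w) (hB : IsSv Q f B u' w') :
    IsSg f (A * B * A⁻¹ * B⁻¹) u u' (f w w') := by
  have hf := hq.sym
  have hu'u : f u' u = 0 := by rw [s_symm hf, huu']
  have hwu' : f w u' = 0 := by rw [s_symm hf, hu'w]
  have h1 := isSv_conj hq hAQ hB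
  have e1 : (A : Matrix (Fin n) (Fin n) F) *ᵥ u' = u' := by
    rw [hA u']
    unfold Sv
    rw [huu', hwu']
    module
  have e2 : (A : Matrix (Fin n) (Fin n) F) *ᵥ w' = w' - f w w' • u := by
    rw [hA w']
    unfold Sv
    rw [huw']
    module
  rw [e1, e2] at h1
  have h2 := isSv_inv hq hu' hu'w' hB
  have h3 : f u' (w' - f w w' • u) = 0 := by
    rw [f_sub_right hf, s_smul_right hf, hu'w', hu'u]
    ring
  have h4 : f u' (-w') = 0 := by rw [f_neg_right hf, hu'w', neg_zero]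
  have h5 := isSv_mul hq hu' h3 h4 h1 h2
  have e3 : w' - f w w' • u + -w' = (-(f w w')) • u := by module
  rw [e3] at h5
  have h6 := isSg_of_isSv hq hu h5
  have h7 := isSg_swap h6
  rw [neg_neg] at h7
  exact h7

end Cfsg.Agent.Lib.Helper29.OG
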