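import Cfsg.Agent.Lib.Helper29.OG.Sv

/-!
# Weyl-type and torus elements built from Siegel elements (abstract setting)
-/

set_option autoImplicit false

namespace Cfsg.Agent.Lib.Helper29.OG

open Matrix Cfsg.Agent.Lib.Helper28.HForm Cfsg.Agent.Lib.Helper28.OGen
  Cfsg.Agent.Lib.Helper28.OMax Cfsg.Agent.Lib.Helper28.OIwa Cfsg.Agent.Lib.Helper28.OQ
  Cfsg.Agent.Lib.Helper28.OMax2 Cfsg.Agent.Lib.Helper28.OIwa2

variable {n : ℕ} {F : Type*} [Field F] {Q : (Fin n → F) → F}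
  {f : (Fin n → F) → (Fin n → F) → F}

/-- a hyperbolic quadruple: two orthogonal hyperbolic pairs `(p,p')`, `(r,r')`. -/
structure HQuad (Q : (Fin n → F) → F) (f : (Fin n → F) → (Fin n → F) → F)
    (p p' r r' : Fin n → F) : Prop where
  qp : Q p = 0
  qp' : Q p' = 0
  qr : Q r = 0
  qr' : Q r' = 0
  pp' : f p p' = 1
  rr' : f r r' = 1
  pr : f p r = 0
  pr' : f p r' = 0
  p'r : f p' r = 0
  p'r' : f p' r' = 0

theorem Tv_apply_of {u v z : Fin n → F} {a b : F} (c : F) (h1 : f u z = a) (h2 : f v z = b) :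
    Tv f u v c z = z + c • (a • v - b • u) := by
  unfold Tv
  rw [h1, h2]

theorem eq_of_sub_eq_smul {x y p : Fin n → F} {k : F} (hk : k = 0) (h : x - y = k • p) :
    x = y := by
  rw [hk, zero_smul] at h
  exact sub_eq_zero.mp h

/-- the Weyl-type element `w(t) = x(t) y(t⁻¹) x(t)` of a hyperbolic quadruple. -/
theorem W_exists (hq : QF Q f) {G : Subgroup (Matrix.GeneralLinearGroup (Fin n) F)}
    (hG : SgGroupQ Q f G) {p p' r r' : Fin n → F} (hD : HQuad Q f p p' r r') (t s : F)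
    (hst : s * t = 1) :
    ∃ g ∈ G, (g : Matrix (Fin n) (Fin n) F) *ᵥ p = s • r' ∧
      (g : Matrix (Fin n) (Fin n) F) *ᵥ r' = (-t) • p ∧
      (g : Matrix (Fin n) (Fin n) F) *ᵥ r = (-s) • p' ∧
      (g : Matrix (Fin n) (Fin n) F) *ᵥ p' = t • r ∧
      ∀ z, f p z = 0 → f p' z = 0 → f r z = 0 → f r' z = 0 →
        (g : Matrix (Fin n) (Fin n) F) *ᵥ z = z := by
  have hf := hq.sym
  have hpp := f_sing hq hD.qp
  have hp'p' := f_sing hq hD.qp'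
  have hrr := f_sing hq hD.qr
  have hr'r' := f_sing hq hD.qr'
  have hp'p : f p' p = 1 := by rw [s_symm hf, hD.pp']
  have hr'r : f r' r = 1 := by rw [s_symm hf, hD.rr']
  have hrp : f r p = 0 := by rw [s_symm hf, hD.pr]
  have hr'p : f r' p = 0 := by rw [s_symm hf, hD.pr']
  have hrp' : f r p' = 0 := by rw [s_symm hf, hD.p'r]
  have hr'p' : f r' p' = 0 := by rw [s_symm hf, hD.p'r']
  obtain ⟨x₁, hx⟩ := hG.ex p r t hD.qp hD.qr hD.pr
  obtain ⟨y₁, hy⟩ := hG.ex p' r' s hD.qp' hD.qr' hD.p'r'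
  have hxG : x₁ ∈ G := hG.sg x₁ p r t hD.qp hD.qr hD.pr hx
  have hyG : y₁ ∈ G := hG.sg y₁ p' r' s hD.qp' hD.qr' hD.p'r' hy
  have xp : (x₁ : Matrix (Fin n) (Fin n) F) *ᵥ p = p := by
    rw [hx p, Tv_apply_of t hpp hrp]; module
  have xr : (x₁ : Matrix (Fin n) (Fin n) F) *ᵥ r = r := by
    rw [hx r, Tv_apply_of t hD.pr hrr]; module
  have xp' : (x₁ : Matrix (Fin n) (Fin n) F) *ᵥ p' = p' + t • r := by
    rw [hx p', Tv_apply_of t hD.pp' hrp']; module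
  have xr' : (x₁ : Matrix (Fin n) (Fin n) F) *ᵥ r' = r' - t • p := by
    rw [hx r', Tv_apply_of t hD.pr' hD.rr']; module
  have yp : (y₁ : Matrix (Fin n) (Fin n) F) *ᵥ p = p + s • r' := by
    rw [hy p, Tv_apply_of s hp'p hr'p]; module
  have yr : (y₁ : Matrix (Fin n) (Fin n) F) *ᵥ r = r - s • p' := by
    rw [hy r, Tv_apply_of s hD.p'r hr'r]; module
  have yp' : (y₁ : Matrix (Fin n) (Fin n) F) *ᵥ p' = p' := by
    rw [hy p', Tv_apply_of s hp'p' hr'p']; module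
  have yr' : (y₁ : Matrix (Fin n) (Fin n) F) *ᵥ r' = r' := by
    rw [hy r', Tv_apply_of s hD.p'r' hr'r']; module
  have hk : 1 - s * t = 0 := by rw [hst, sub_self]
  refine ⟨x₁ * y₁ * x₁, G.mul_mem (G.mul_mem hxG hyG) hxG, ?_, ?_, ?_, ?_, ?_⟩
  · rw [Cfsg.Agent.S5643.mul_mv, Cfsg.Agent.S5643.mul_mv, xp, yp, Matrix.mulVec_add,
      Matrix.mulVec_smul, xp, xr']
    apply eq_of_sub_eq_smul (p := p) hk
    module
  · rw [Cfsg.Agent.S5643.mul_mv, Cfsg.Agent.S5643.mul_mv, xr', Matrix.mulVec_sub,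
      Matrix.mulVec_smul, yr', yp, Matrix.mulVec_sub, Matrix.mulVec_smul, Matrix.mulVec_add,
      Matrix.mulVec_smul, xr', xp]
    apply eq_of_sub_eq_smul (p := r' - t • p) hk
    module
  · rw [Cfsg.Agent.S5643.mul_mv, Cfsg.Agent.S5643.mul_mv, xr, yr, Matrix.mulVec_sub,
      Matrix.mulVec_smul, xr, xp']
    apply eq_of_sub_eq_smul (p := r) hk
    module
  · rw [Cfsg.Agent.S5643.mul_mv, Cfsg.Agent.S5643.mul_mv, xp', Matrix.mulVec_add,
      Matrix.mulVec_smul, yp', yr, Matrix.mulVec_add, Matrix.mulVec_smul, Matrix.mulVec_sub,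
      Matrix.mulVec_smul, xp', xr]
    apply eq_of_sub_eq_smul (p := p' + t • r) hk
    module
  · intro z h1 h2 h3 h4
    have xz : (x₁ : Matrix (Fin n) (Fin n) F) *ᵥ z = z := by
      rw [hx z, Tv_apply_of t h1 h3]; module
    have yz : (y₁ : Matrix (Fin n) (Fin n) F) *ᵥ z = z := by
      rw [hy z, Tv_apply_of s h2 h4]; module
    rw [Cfsg.Agent.S5643.mul_mv, Cfsg.Agent.S5643.mul_mv, xz, yz, xz]

/-- the torus element `h(κ) = w(κ) w(-1)` of a hyperbolic quadruple. -/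
theorem H_exists (hq : QF Q f) {G : Subgroup (Matrix.GeneralLinearGroup (Fin n) F)}
    (hG : SgGroupQ Q f G) {p p' r r' : Fin n → F} (hD : HQuad Q f p p' r r') (κ : F)
    (hκ : κ ≠ 0) :
    ∃ g ∈ G, (g : Matrix (Fin n) (Fin n) F) *ᵥ p = κ • p ∧
      (g : Matrix (Fin n) (Fin n) F) *ᵥ r = κ • r ∧
      (g : Matrix (Fin n) (Fin n) F) *ᵥ p' = κ⁻¹ • p' ∧
      (g : Matrix (Fin n) (Fin n) F) *ᵥ r' = κ⁻¹ • r' ∧
      ∀ z, f p z = 0 → f p' z = 0 → f r z = 0 → f r' z = 0 →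
        (g : Matrix (Fin n) (Fin n) F) *ᵥ z = z := by
  obtain ⟨g₁, hg₁, a1, a2, a3, a4, a5⟩ := W_exists hq hG hD κ κ⁻¹ (inv_mul_cancel₀ hκ)
  obtain ⟨g₂, hg₂, b1, b2, b3, b4, b5⟩ := W_exists hq hG hD (-1) (-1) (by ring)
  refine ⟨g₁ * g₂, G.mul_mem hg₁ hg₂, ?_, ?_, ?_, ?_, ?_⟩
  · rw [Cfsg.Agent.S5643.mul_mv, b1, Matrix.mulVec_smul, a2]
    module
  · rw [Cfsg.Agent.S5643.mul_mv, b3, Matrix.mulVec_smul, a4]
    module
  · rw [Cfsg.Agent.S5643.mul_mv, b4, Matrix.mulVec_smul, a3]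
    module
  · rw [Cfsg.Agent.S5643.mul_mv, b2, Matrix.mulVec_smul, a1]
    module
  · intro z h1 h2 h3 h4
    rw [Cfsg.Agent.S5643.mul_mv, b5 z h1 h2 h3 h4, a5 z h1 h2 h3 h4]

/-- the short-root Weyl element: for a hyperbolic pair `(c,c')` and `d ⟂ c, c'` with `Q d = 1`. -/
theorem Nshort_exists (hq : QF Q f) (vf : VFacts Q f)
    {G : Subgroup (Matrix.GeneralLinearGroup (Fin n) F)} (hG : SgGroupQ Q f G)
    {c c' d : Fin n → F} (hc : Q c = 0) (hc' : Q c' = 0) (hcc' : f c c' = 1) (hd : Q d = 1)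
    (hcd : f c d = 0) (hc'd : f c' d = 0) :
    ∃ g ∈ G, (g : Matrix (Fin n) (Fin n) F) *ᵥ c = (-1 : F) • c' ∧
      (g : Matrix (Fin n) (Fin n) F) *ᵥ c' = (-1 : F) • c ∧
      (g : Matrix (Fin n) (Fin n) F) *ᵥ d = (-1 : F) • d ∧
      ∀ z, f c z = 0 → f c' z = 0 → f d z = 0 → (g : Matrix (Fin n) (Fin n) F) *ᵥ z = z := by
  have hf := hq.sym
  have hcc := f_sing hq hc
  have hc'c' := f_sing hq hc'
  have hc'c : f c' c = 1 := by rw [s_symm hf, hcc']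
  have hdc : f d c = 0 := by rw [s_symm hf, hcd]
  have hdc' : f d c' = 0 := by rw [s_symm hf, hc'd]
  have hdd : f d d = 2 := by rw [f_self hq, hd, mul_one]
  obtain ⟨X, hXG, hX⟩ := exists_isSv hq vf hG hc hcd
  obtain ⟨Y, hYG, hY⟩ := exists_isSv hq vf hG hc' hc'd
  have Xc : (X : Matrix (Fin n) (Fin n) F) *ᵥ c = c := by
    rw [hX c]; unfold Sv; rw [hcc, hdc]; module
  have Xd : (X : Matrix (Fin n) (Fin n) F) *ᵥ d = d - (2 : F) • c := by
    rw [hX d]; unfold Sv; rw [hcd, hdd]; module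
  have Xc' : (X : Matrix (Fin n) (Fin n) F) *ᵥ c' = c' + d - c := by
    rw [hX c']; unfold Sv; rw [hcc', hdc', hd]; module
  have Yc' : (Y : Matrix (Fin n) (Fin n) F) *ᵥ c' = c' := by
    rw [hY c']; unfold Sv; rw [hc'c', hdc']; module
  have Yd : (Y : Matrix (Fin n) (Fin n) F) *ᵥ d = d - (2 : F) • c' := by
    rw [hY d]; unfold Sv; rw [hc'd, hdd]; module
  have Yc : (Y : Matrix (Fin n) (Fin n) F) *ᵥ c = c + d - c' := by
    rw [hY c]; unfold Sv; rw [hc'c, hdc, hd]; module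
  refine ⟨X * Y * X, G.mul_mem (G.mul_mem hXG hYG) hXG, ?_, ?_, ?_, ?_⟩
  · rw [Cfsg.Agent.S5643.mul_mv, Cfsg.Agent.S5643.mul_mv, Xc, Yc, Matrix.mulVec_sub,
      Matrix.mulVec_add, Xc, Xd, Xc']
    module
  · rw [Cfsg.Agent.S5643.mul_mv, Cfsg.Agent.S5643.mul_mv, Xc', Matrix.mulVec_sub,
      Matrix.mulVec_add, Yc', Yd, Yc, Matrix.mulVec_sub, Matrix.mulVec_add, Matrix.mulVec_sub,
      Matrix.mulVec_smul, Matrix.mulVec_sub, Matrix.mulVec_add, Xc, Xd, Xc']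
    module
  · rw [Cfsg.Agent.S5643.mul_mv, Cfsg.Agent.S5643.mul_mv, Xd, Matrix.mulVec_sub,
      Matrix.mulVec_smul, Yd, Yc, Matrix.mulVec_sub, Matrix.mulVec_sub, Matrix.mulVec_smul,
      Matrix.mulVec_smul, Matrix.mulVec_sub, Matrix.mulVec_add, Xc, Xd, Xc']
    module
  · intro z h1 h2 h3
    have Xz : (X : Matrix (Fin n) (Fin n) F) *ᵥ z = z := by
      rw [hX z]; unfold Sv; rw [h1, h3]; module
    have Yz : (Y : Matrix (Fin n) (Fin n) F) *ᵥ z = z := by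
      rw [hY z]; unfold Sv; rw [h2, h3]; module
    rw [Cfsg.Agent.S5643.mul_mv, Cfsg.Agent.S5643.mul_mv, Xz, Yz, Xz]

end Cfsg.Agent.Lib.Helper29.OG
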